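import Mathlib

/-!
Arithmetic and permutation facts for operators of prime-power order.
-/

set_option autoImplicit false
set_option linter.style.haveILetI false

namespace CfsgLib.HallHigman.FpfPower

/-- A power of `x` that lies in a subgroup forces a `p`-power of `x` into it. -/
theorem pow_mem_of_pow_mem {Y : Type*} [Group Y] {p c d : ℕ} (hp : p.Prime) {x : Y}
    (hx : x ^ p ^ c = 1) {H : Subgroup Y} {i : ℕ} (hi : x ^ i ∈ H) (hd : ¬ p ^ (d + 1) ∣ i) :
    x ^ p ^ d ∈ H := by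
  obtain ⟨e, he, hg⟩ := (Nat.dvd_prime_pow hp).1 (Nat.gcd_dvd_right i (p ^ c))
  have hed : e ≤ d := by
    by_contra hlt
    push Not at hlt
    exact hd ((pow_dvd_pow p hlt).trans (hg ▸ Nat.gcd_dvd_left i (p ^ c)))
  have h1 : x ^ (Nat.gcd i (p ^ c)) ∈ H := by
    rw [← zpow_natCast, Nat.gcd_eq_gcd_ab, zpow_add, zpow_mul, zpow_mul, zpow_natCast, zpow_natCast,
      hx, one_zpow, mul_one]
    exact H.zpow_mem hi _
  rw [hg] at h1
  obtain ⟨t, ht⟩ := pow_dvd_pow p hed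
  rw [ht, pow_mul]
  exact H.pow_mem h1 t

/-- The orbits of a permutation of prime-power order that moves everything with its smallest
nontrivial power. -/
theorem free_orbits {T : Type*} (σ : Equiv.Perm T) {p c : ℕ} (hp : p.Prime)
    (hσ : σ ^ p ^ (c + 1) = 1) (t₀ : T) (h₀ : σ t₀ = t₀)
    (hfree : ∀ t, (σ ^ p ^ c) t = t → t = t₀) [Finite T] :
    p ^ (c + 1) ∣ Nat.card T - 1 := by
  classical
  haveI := Fintype.ofFinite T
  haveI := Fact.mk hp
  let s : Finset T := Finset.univ.filter fun t => t ≠ t₀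
  have hsupp : σ.support = s := by
    ext t
    simp only [Equiv.Perm.mem_support, s, Finset.mem_filter, Finset.mem_univ, true_and]
    refine ⟨fun h e => h (by rw [e, h₀]), fun h e => h (hfree t ?_)⟩
    exact Equiv.Perm.pow_apply_eq_self_of_apply_eq_self e _
  have hcard : σ.support.card = Nat.card T - 1 := by
    rw [hsupp, show s = Finset.univ.erase t₀ by ext; simp [s], Finset.card_erase_of_mem (Finset.mem_univ _),
      Finset.card_univ, Nat.card_eq_fintype_card]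
  rw [← hcard, ← Equiv.Perm.sum_cycleType]
  refine Multiset.dvd_sum fun l hl => ?_
  have hld : l ∣ p ^ (c + 1) :=
    (Equiv.Perm.dvd_of_mem_cycleType hl).trans (orderOf_dvd_of_pow_eq_one hσ)
  obtain ⟨e, he, rfl⟩ := (Nat.dvd_prime_pow hp).1 hld
  rcases lt_or_eq_of_le he with hlt | rfl
  swap
  · exact dvd_rfl
  exfalso
  rw [Equiv.Perm.cycleType_def, Multiset.mem_map] at hl
  obtain ⟨γ, hγ, hl⟩ := hl
  simp only [Function.comp_apply] at hl
  rw [Finset.mem_val, Equiv.Perm.mem_cycleFactorsFinset_iff] at hγ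
  obtain ⟨t, ht⟩ : γ.support.Nonempty := Finset.card_pos.1 (by rw [hl]; exact Nat.pow_pos hp.pos)
  have hord : orderOf γ = p ^ e := by rw [hγ.1.orderOf, hl]
  have hagree : ∀ k : ℕ, (σ ^ k) t = (γ ^ k) t ∧ (γ ^ k) t ∈ γ.support := by
    intro k
    induction k with
    | zero => exact ⟨rfl, ht⟩
    | succ k ih =>
      rw [pow_succ', pow_succ', Equiv.Perm.mul_apply, Equiv.Perm.mul_apply, ih.1]
      exact ⟨(hγ.2 _ ih.2).symm, Equiv.Perm.apply_mem_support.2 ih.2⟩
  have hfix : (σ ^ p ^ c) t = t := by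
    rw [(hagree _).1]
    obtain ⟨m, hm⟩ := pow_dvd_pow p (Nat.lt_succ_iff.1 hlt)
    rw [hm, pow_mul, ← hord, pow_orderOf_eq_one, one_pow, Equiv.Perm.one_apply]
  have ht' := hfree t hfix
  have hmem : t ∈ σ.support := by
    rw [Equiv.Perm.mem_support]
    have h1 : γ t = σ t := hγ.2 t ht
    rw [← h1]
    exact Equiv.Perm.mem_support.1 ht
  rw [hsupp] at hmem
  exact (Finset.mem_filter.1 hmem).2 ht'

/-- The eigenvalue count forces the exceptional parameters. -/
theorem exceptional_params {p c q n : ℕ} (hp : p.Prime) (hp2 : p ≠ 2) (hq : q.Prime) (hn : n ≠ 0)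
    (hdvd : p ^ (c + 1) ∣ (q ^ n + 1) * (q ^ n - 1)) (hle : q ^ n < p ^ (c + 1)) :
    q = 2 ∧ p ^ (c + 1) = 2 ^ n + 1 := by
  have hQ : 2 ≤ q ^ n := hq.two_le.trans (Nat.le_self_pow hn q)
  have key : p ^ (c + 1) ∣ q ^ n + 1 ∨ p ^ (c + 1) ∣ q ^ n - 1 := by
    by_cases h1 : p ∣ q ^ n - 1
    · refine Or.inr ((Nat.Coprime.pow_left (c + 1) ?_).dvd_of_dvd_mul_left hdvd)
      refine (Nat.Prime.coprime_iff_not_dvd hp).2 fun h2 => hp2 ?_
      have : p ∣ 2 := by
        have := Nat.dvd_sub h2 h1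
        rwa [show q ^ n + 1 - (q ^ n - 1) = 2 by omega] at this
      exact (Nat.prime_dvd_prime_iff_eq hp Nat.prime_two).1 this
    · exact Or.inl ((Nat.Coprime.pow_left (c + 1)
        ((Nat.Prime.coprime_iff_not_dvd hp).2 h1)).dvd_of_dvd_mul_right hdvd)
  have hN : p ^ (c + 1) = q ^ n + 1 := by
    rcases key with h | h
    · have := Nat.le_of_dvd (by omega) h; omega
    · have := Nat.le_of_dvd (by omega) h; omega
  have hq2 : q = 2 := by
    by_contra hq2
    have hodd : Odd (q ^ n) := (hq.odd_of_ne_two hq2).pow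
    have h2 : Odd (p ^ (c + 1)) := (hp.odd_of_ne_two hp2).pow
    rw [hN] at h2
    exact (Nat.not_odd_iff_even.2 (hodd.add_odd odd_one)) h2
  exact ⟨hq2, hq2 ▸ hN⟩

/-- Lifting the exponent: the order of two modulo `p ^ (c + 1 + d)`. -/
theorem two_pow_dvd {p c k a d : ℕ} (hp : p.Prime) (hp2 : p ≠ 2) (hk : 1 ≤ k)
    (hN : p ^ (c + 1) = 2 ^ k + 1) (ha : 0 < a) (hdvd : p ^ (c + 1 + d) ∣ 2 ^ a - 1) :
    2 * k * p ^ d ≤ a := by
  haveI := Fact.mk hp
  set N := p ^ (c + 1) with hNdef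
  have hNa : N ∣ 2 ^ a - 1 := (pow_dvd_pow p (Nat.le_add_right _ _)).trans hdvd
  have hpk : 2 ≤ 2 ^ k := Nat.le_self_pow (by omega) 2
  have hsq : 2 ^ (2 * k) - 1 = (2 ^ k + 1) * (2 ^ k - 1) := by
    rw [← Nat.sq_sub_sq, one_pow, ← pow_mul, mul_comm]
  -- the order of two modulo `N`
  have h2k : 2 * k ∣ a := by
    obtain ⟨b, r, hr, rfl⟩ : ∃ b r, r < 2 * k ∧ a = 2 * k * b + r :=
      ⟨a / (2 * k), a % (2 * k), Nat.mod_lt _ (by omega), (Nat.div_add_mod a (2 * k)).symm⟩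
    suffices r = 0 by subst this; simp
    have hone : (2 ^ (2 * k) : ZMod N) = 1 := by
      have h1 : ((2 ^ (2 * k) - 1 : ℕ) : ZMod N) = 0 :=
        (ZMod.natCast_eq_zero_iff _ _).2 (by rw [hsq, hN]; exact dvd_mul_right _ _)
      rw [Nat.cast_sub Nat.one_le_two_pow, sub_eq_zero] at h1
      simpa using h1
    have hr1 : (2 ^ r : ZMod N) = 1 := by
      have h1 : ((2 ^ (2 * k * b + r) - 1 : ℕ) : ZMod N) = 0 :=
        (ZMod.natCast_eq_zero_iff _ _).2 hNa
      rw [Nat.cast_sub Nat.one_le_two_pow, sub_eq_zero, pow_add, pow_mul] at h1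
      push_cast at h1
      rwa [hone, one_pow, one_mul] at h1
    rcases Nat.lt_or_ge k r with hkr | hrk
    · exfalso
      obtain ⟨s, rfl⟩ : ∃ s, r = k + s := ⟨r - k, by omega⟩
      have hm : (2 ^ k : ZMod N) = -1 := by
        refine eq_neg_of_add_eq_zero_left ?_
        have h1 : ((2 ^ k + 1 : ℕ) : ZMod N) = 0 := by rw [← hN]; exact ZMod.natCast_self N
        simpa using h1
      rw [pow_add, hm, neg_one_mul, neg_eq_iff_eq_neg] at hr1
      have h1 : ((2 ^ s + 1 : ℕ) : ZMod N) = 0 := by push_cast; rw [hr1]; ring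
      have h2 := Nat.le_of_dvd (Nat.succ_pos _) ((ZMod.natCast_eq_zero_iff _ _).1 h1)
      have h3 : 2 ^ s < 2 ^ k := Nat.pow_lt_pow_right (by norm_num) (by omega)
      omega
    · by_contra h0
      have h1 : ((2 ^ r - 1 : ℕ) : ZMod N) = 0 := by
        rw [Nat.cast_sub Nat.one_le_two_pow, sub_eq_zero]
        simpa using hr1
      have h3 : 2 ^ r ≤ 2 ^ k := Nat.pow_le_pow_right (by norm_num) hrk
      have h4 : 2 ≤ 2 ^ r := Nat.le_self_pow h0 2
      have h2 := Nat.le_of_dvd (by omega) ((ZMod.natCast_eq_zero_iff _ _).1 h1)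
      omega
  obtain ⟨b, rfl⟩ := h2k
  have hb : b ≠ 0 := fun h => by simp [h] at ha
  refine Nat.mul_le_mul_left _ (Nat.le_of_dvd (Nat.pos_of_ne_zero hb) ?_)
  have hodd : Odd p := hp.odd_of_ne_two hp2
  have hp4 : p ∣ 2 ^ (2 * k) - 1 := by
    rw [hsq, ← hN]
    exact dvd_mul_of_dvd_left (dvd_pow_self p (Nat.succ_ne_zero c)) _
  have hnp : ¬ p ∣ 2 ^ (2 * k) := fun h =>
    hp2 ((Nat.prime_dvd_prime_iff_eq hp Nat.prime_two).1 (hp.dvd_of_dvd_pow h))
  have hv := padicValNat.pow_sub_pow (p := p) hodd (x := 2 ^ (2 * k)) (y := 1)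
    (Nat.one_lt_two_pow (by omega)) hp4 hnp (n := b) hb
  rw [one_pow, hsq] at hv
  have hv1 : padicValNat p (2 ^ k - 1) = 0 := by
    refine padicValNat.eq_zero_of_not_dvd fun h => hp2 ?_
    have h' : p ∣ 2 ^ k + 1 := by rw [← hN]; exact dvd_pow_self p (Nat.succ_ne_zero c)
    have := Nat.dvd_sub h' h
    rw [show 2 ^ k + 1 - (2 ^ k - 1) = 2 by omega] at this
    exact (Nat.prime_dvd_prime_iff_eq hp Nat.prime_two).1 this
  rw [padicValNat.mul (by omega) (by omega), hv1, ← hN, hNdef, padicValNat.prime_pow, ← pow_mul] at hv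
  have hlt : 1 < 2 ^ (2 * k * b) := Nat.one_lt_two_pow (Nat.mul_ne_zero (by omega) hb)
  have h5 := (padicValNat_dvd_iff_le (p := p) (by omega)).1 hdvd
  rw [hv] at h5
  exact (pow_dvd_pow p (show d ≤ padicValNat p b by omega)).trans pow_padicValNat_dvd

end CfsgLib.HallHigman.FpfPower
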