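import Cfsg.Agent.Lib.BG.FixedLine.Bounds
import Cfsg.Agent.Lib.HallHigman.FpfPower.Arith

/-!
The counting inequality for an operator of prime-power order whose smallest nontrivial power is
fixed-point-free on the central quotient.
-/

set_option autoImplicit false
set_option linter.style.haveILetI false
set_option linter.unusedSectionVars false

open scoped commutatorElement

namespace CfsgLib.HallHigman.FpfPower

open CfsgLib.BG.FixedLine

variable {K W Y : Type*} [Field K] [AddCommGroup W] [Module K W] [Group Y] [Finite Y]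
  {ρ : Y →* Module.End K W}

/-- The operator `x` and its power `y`. -/
structure PowOp (U Z : Subgroup Y) (x y : Y) (p c : ℕ) : Prop where
  hp : p.Prime
  hxr : x ^ p ^ (c + 1) = 1
  hy : y = x ^ p ^ c
  hxU : ∀ u ∈ U, x * u * x⁻¹ ∈ U
  hxZ : ∀ z ∈ Z, x * z = z * x

namespace PowOp

variable [Nontrivial W] {U Z : Subgroup Y} {x y : Y} {p c : ℕ} {lam : Y → K}
  (P : PowOp U Z x y p c) (h : Central ρ U Z y p lam)

include P

theorem conj_mem_iff {v : Y} (hv : v ∈ U) : x * v * x⁻¹ ∈ Z ↔ v ∈ Z := by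
  constructor
  · intro hz
    have := P.hxZ _ hz
    have e : x * (x * v * x⁻¹) * x⁻¹ = x * v * x⁻¹ := by rw [this, mul_inv_cancel_right]
    have hv' : x * v * x⁻¹ = v := mul_left_cancel (mul_right_cancel e)
    rwa [hv'] at hz
  · intro hz
    rwa [P.hxZ v hz, mul_inv_cancel_right]

include h

theorem twAvgX {v : Y} (hv : v ∈ U) {f : Module.End K W} (hf : f ∈ comm (ρ x)) :
    ρ x * twAvg ρ U lam v f * ρ x⁻¹ = twAvg ρ U lam (x * v * x⁻¹) f := by
  haveI := Fintype.ofFinite U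
  let m : U → U := fun u => ⟨x * (u : Y) * x⁻¹, P.hxU u u.2⟩
  have hm : Function.Injective m := fun a b e => Subtype.ext (by
    simpa [m] using congrArg Subtype.val e)
  rw [twAvg_apply, twAvg_apply, Finset.mul_sum, Finset.sum_mul]
  refine Fintype.sum_bijective m (Finite.injective_iff_bijective.1 hm) _ _ fun u => ?_
  have hl : ⁅x * (u : Y) * x⁻¹, x * v * x⁻¹⁆ = ⁅(u : Y), v⁆ := by
    have hz := P.hxZ _ (h.hder u u.2 v hv)
    calc ⁅x * (u : Y) * x⁻¹, x * v * x⁻¹⁆ = x * ⁅(u : Y), v⁆ * x⁻¹ := by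
          simp only [commutatorElement_def]; group
      _ = _ := by rw [hz, mul_inv_cancel_right]
  show ρ x * ((lam ⁅(u : Y), v⁆)⁻¹ • (ρ (u : Y) * (f * ρ (u : Y)⁻¹))) * ρ x⁻¹ =
    (lam ⁅x * (u : Y) * x⁻¹, x * v * x⁻¹⁆)⁻¹ •
      (ρ (x * u * x⁻¹) * (f * ρ (x * (u : Y) * x⁻¹)⁻¹))
  rw [hl, mul_smul_comm, smul_mul_assoc]
  congr 1
  have hfx : ρ x⁻¹ * f * ρ x = f := by
    rw [mul_assoc, ← mem_comm.1 hf, ← mul_assoc, ← map_mul, inv_mul_cancel, map_one, one_mul]
  rw [show (x * (u : Y) * x⁻¹)⁻¹ = x * (u : Y)⁻¹ * x⁻¹ by group, map_mul, map_mul, map_mul, map_mul]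
  conv_lhs => rw [← hfx]
  simp only [mul_assoc]

variable [FiniteDimensional K W]

theorem comm_dim_le :
    ∃ o : ℕ, Z.relIndex U = 1 + o * p ^ (c + 1) ∧
      Module.finrank K (comm (ρ x)) ≤ Module.finrank K ↥(commS ρ U ⊓ comm (ρ x)) +
        o * Module.finrank K (commS ρ U) := by
  classical
  haveI := Fintype.ofFinite U
  haveI := Fintype.ofFinite (U ⧸ Z.subgroupOf U)
  let cx : U → U := fun u => ⟨x * (u : Y) * x⁻¹, P.hxU u u.2⟩
  let π : U → U ⧸ Z.subgroupOf U := QuotientGroup.mk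
  have hπ : ∀ u v : U, π u = π v ↔ (u : Y)⁻¹ * (v : Y) ∈ Z := fun u v => by
    show QuotientGroup.mk u = QuotientGroup.mk v ↔ _
    rw [QuotientGroup.eq, Subgroup.mem_subgroupOf]
    simp
  have hout : ∀ i, π i.out = i := fun i => QuotientGroup.out_eq' i
  have hc : ∀ u v : U, π (cx u) = π (cx v) ↔ π u = π v := by
    intro u v
    rw [hπ, hπ]
    rw [show (cx u : Y)⁻¹ * (cx v : Y) = x * ((u : Y)⁻¹ * (v : Y)) * x⁻¹ by
      show (x * (u : Y) * x⁻¹)⁻¹ * (x * (v : Y) * x⁻¹) = _; group]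
    exact P.conj_mem_iff (U.mul_mem (U.inv_mem u.2) v.2)
  let σf : U ⧸ Z.subgroupOf U → U ⧸ Z.subgroupOf U := fun i => π (cx i.out)
  have hσf : ∀ u, σf (π u) = π (cx u) := fun u => (hc _ _).2 (hout _)
  have hinj : Function.Injective σf := fun i j e => by
    rw [← hout i, ← hout j]; exact (hc _ _).1 e
  let σ : Equiv.Perm (U ⧸ Z.subgroupOf U) := Equiv.ofBijective σf (Finite.injective_iff_bijective.1 hinj)
  have hσ1 : σ (π 1) = π 1 := by
    show σf (π 1) = π 1
    rw [hσf, hπ]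
    simp [cx]
  have key : ∀ (n : ℕ) (u : U), ∃ w : U, (σ ^ n) (π u) = π w ∧ (w : Y) = x ^ n * u * (x ^ n)⁻¹ := by
    intro n
    induction n with
    | zero => exact fun u => ⟨u, by simp, by simp⟩
    | succ n ih =>
      intro u
      obtain ⟨w, hw, hwe⟩ := ih u
      refine ⟨cx w, ?_, ?_⟩
      · rw [pow_succ', Equiv.Perm.mul_apply, hw]; exact hσf w
      · show x * (w : Y) * x⁻¹ = _
        rw [hwe, pow_succ']; group
  have hσr : σ ^ p ^ (c + 1) = 1 := by
    refine Equiv.ext fun i => ?_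
    obtain ⟨u, rfl⟩ : ∃ u, π u = i := ⟨i.out, hout i⟩
    obtain ⟨w, hw, hwe⟩ := key (p ^ (c + 1)) u
    rw [hw, Equiv.Perm.one_apply]
    congr 1
    exact Subtype.ext (by simp [hwe, P.hxr])
  have hy : ∀ i, (σ ^ p ^ c) i = i → i = π 1 := by
    intro i hi
    obtain ⟨u, rfl⟩ : ∃ u, π u = i := ⟨i.out, hout i⟩
    obtain ⟨w, hw, hwe⟩ := key (p ^ c) u
    rw [hw, hπ] at hi
    rw [hπ]
    have e2 : (u : Y)⁻¹ * (w : Y) ∈ Z := by
      have := Z.inv_mem hi
      rwa [mul_inv_rev, inv_inv] at this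
    rw [hwe, ← P.hy] at e2
    have e3 : y * (u : Y) * y⁻¹ * (u : Y)⁻¹ = (u : Y)⁻¹ * (y * (u : Y) * y⁻¹) := by
      calc y * (u : Y) * y⁻¹ * (u : Y)⁻¹ = (u : Y) * ((u : Y)⁻¹ * (y * (u : Y) * y⁻¹)) * (u : Y)⁻¹ := by
            group
        _ = _ := by rw [← h.hcen _ e2 u u.2, mul_inv_cancel_right]
    simpa using Z.inv_mem (h.hfpf u u.2 (show y * (u : Y) * y⁻¹ * (u : Y)⁻¹ ∈ Z by rw [e3]; exact e2))
  let S := {i : U ⧸ Z.subgroupOf U // i ≠ π 1}
  let G := Subgroup.zpowers σ
  have hG : ∀ (g : G) (i : U ⧸ Z.subgroupOf U), i ≠ π 1 → (g : Equiv.Perm _) i ≠ π 1 := by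
    intro g i hi e
    obtain ⟨k, hk⟩ := Subgroup.mem_zpowers_iff.1 g.2
    rw [← hk] at e
    have h1 : ∀ k : ℤ, (σ ^ k) (π 1) = π 1 := fun k =>
      Equiv.Perm.zpow_apply_eq_self_of_apply_eq_self hσ1 k
    exact hi ((σ ^ k).injective (e.trans (h1 k).symm))
  letI : MulAction G S :=
    { smul := fun g i => ⟨(g : Equiv.Perm _) i.1, hG g i.1 i.2⟩
      one_smul := fun i => Subtype.ext rfl
      mul_smul := fun g g' i => Subtype.ext rfl }
  haveI := Fintype.ofFinite (Quotient (MulAction.orbitRel G S))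
  have hfree : ∀ i : S, MulAction.stabilizer G i = ⊥ := by
    intro i
    rw [eq_bot_iff]
    intro g hg
    rw [Subgroup.mem_bot]
    have hg' : (g : Equiv.Perm _) i.1 = i.1 := congrArg Subtype.val hg
    by_contra hg1
    obtain ⟨k, hk⟩ := (isOfFinOrder_of_finite σ).mem_powers_iff_mem_zpowers.2 g.2
    have hk' : ¬ p ^ (c + 1) ∣ k := fun hd => hg1 (Subtype.ext (by
      obtain ⟨t, ht⟩ := hd
      rw [← show σ ^ k = (g : Equiv.Perm _) from hk, ht, pow_mul, hσr, one_pow]
      rfl))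
    have hst : σ ^ k ∈ MulAction.stabilizer (Equiv.Perm (U ⧸ Z.subgroupOf U)) i.1 := by
      rw [show σ ^ k = (g : Equiv.Perm _) from hk]
      exact hg'
    exact i.2 (hy _ (pow_mem_of_pow_mem P.hp hσr hst hk'))
  refine ⟨Nat.card (Quotient (MulAction.orbitRel G S)), ?_, ?_⟩
  · have e := Nat.card_congr (MulAction.selfEquivOrbitsQuotientProd hfree)
    rw [Nat.card_prod] at e
    have hS : Nat.card (U ⧸ Z.subgroupOf U) = Nat.card S + 1 := by
      rw [← Nat.card_congr (Equiv.optionSubtypeNe (π 1))]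
      exact Finite.card_option
    rw [Subgroup.relIndex, Subgroup.index, hS, e, add_comm]
    congr 1
    rcases isEmpty_or_nonempty S with hE | hE
    · haveI : IsEmpty (Quotient (MulAction.orbitRel G S)) := ⟨fun q => Quotient.inductionOn' q hE.false⟩
      simp
    · obtain ⟨i⟩ := hE
      congr 1
      rw [Nat.card_zpowers]
      haveI := Fact.mk P.hp
      exact orderOf_eq_prime_pow (fun h1 => i.2 (hy _ (by rw [h1]; rfl))) hσr
  have hzero : ∀ u : U, twAvg ρ U lam ((π u).out : Y) = twAvg ρ U lam (u : Y) := by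
    intro u
    have hz := (hπ u (π u).out).1 (hout (π u)).symm
    conv_lhs => rw [← mul_inv_cancel_left (u : Y) ((π u).out : Y)]
    exact h.twAvg_mul_center u.2 hz
  let Ψ : comm (ρ x) →ₗ[K] ↥(commS ρ U ⊓ comm (ρ x)) × (Quotient (MulAction.orbitRel G S) → commS ρ U) :=
    { toFun := fun f =>
        (⟨twAvg ρ U lam 1 f, by
          refine ⟨?_, mem_comm.2 ?_⟩
          · have := h.untwist_mem U.one_mem (f : Module.End K W)
            rwa [inv_one, map_one, one_mul] at this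
          · have h1 := P.twAvgX h U.one_mem f.2
            rw [mul_one, mul_inv_cancel] at h1
            calc ρ x * twAvg ρ U lam 1 f =
                  ρ x * twAvg ρ U lam 1 f * (ρ x⁻¹ * ρ x) := by
                    rw [← map_mul, inv_mul_cancel, map_one, mul_one]
              _ = _ := by rw [← mul_assoc, h1]⟩,
        fun o => ⟨ρ ((o.out.1.out : U) : Y)⁻¹ * twAvg ρ U lam ((o.out.1.out : U) : Y) f,
          h.untwist_mem (o.out.1.out).2 _⟩)
      map_add' := fun a b => by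
        refine Prod.ext (Subtype.ext ?_) (funext fun o => Subtype.ext ?_) <;> simp [mul_add]
      map_smul' := fun k a => by
        refine Prod.ext (Subtype.ext ?_) (funext fun o => Subtype.ext ?_) <;> simp }
  have hΨ : Function.Injective Ψ := by
    rw [injective_iff_map_eq_zero]
    intro f hf
    have hA : twAvg ρ U lam 1 (f : Module.End K W) = 0 :=
      congrArg Subtype.val (congrArg Prod.fst hf)
    let good : U ⧸ Z.subgroupOf U → Prop := fun i => twAvg ρ U lam (i.out : Y) (f : Module.End K W) = 0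
    have hgood : ∀ u : U, good (π u) ↔ twAvg ρ U lam (u : Y) (f : Module.End K W) = 0 := fun u => by
      show _ = 0 ↔ _; rw [hzero u]
    have hstep : ∀ i, good i → good (σ i) := by
      intro i hi
      obtain ⟨u, rfl⟩ : ∃ u, π u = i := ⟨i.out, hout i⟩
      show good (σf (π u))
      rw [hσf, hgood]
      rw [hgood] at hi
      show twAvg ρ U lam (x * (u : Y) * x⁻¹) (f : Module.End K W) = 0
      rw [← P.twAvgX h u.2 f.2, hi, mul_zero, zero_mul]
    have hall : ∀ i, good i := by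
      intro i
      by_cases hi : i = π 1
      · rw [hi, hgood]; exact hA
      set o : Quotient (MulAction.orbitRel G S) := Quotient.mk'' ⟨i, hi⟩ with ho
      have hrep : good o.out.1 := by
        have := congrArg Subtype.val (congrFun (congrArg Prod.snd hf) o)
        have h2 := congrArg (fun t => ρ ((o.out.1.out : U) : Y) * t) this
        simp only [Ψ, LinearMap.coe_mk, AddHom.coe_mk, Prod.snd_zero, Pi.zero_apply, ZeroMemClass.coe_zero,
          ← mul_assoc, ← map_mul, mul_inv_cancel, map_one, one_mul, mul_zero] at h2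
        exact h2
      have hrel : (⟨i, hi⟩ : S) ∈ MulAction.orbit G o.out := by
        have := Quotient.out_eq' o
        rw [ho] at this ⊢
        exact MulAction.orbitRel_apply.1 (Quotient.exact' this.symm)
      obtain ⟨g, hg⟩ := hrel
      have e : (g : Equiv.Perm _) o.out.1 = i := congrArg Subtype.val hg
      have hfin : IsOfFinOrder σ := isOfFinOrder_of_finite σ
      obtain ⟨m, hm⟩ := hfin.mem_powers_iff_mem_zpowers.2 g.2
      rw [← e, ← show σ ^ m = (g : Equiv.Perm _) from hm]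
      clear e hm hg
      induction m with
      | zero => simpa using hrep
      | succ m ih => rw [pow_succ', Equiv.Perm.mul_apply]; exact hstep _ ih
    have hsum := h.sum_twAvg (f : Module.End K W)
    rw [Finset.sum_eq_zero (fun u _ => (hgood u).1 (hall _))] at hsum
    have hZ0 : (Nat.card Z : K) ≠ 0 := fun h0 => by
      obtain ⟨k, hk⟩ := Subgroup.card_dvd_of_le h.hZU
      exact h.hU0 (by rw [hk, Nat.cast_mul, h0, zero_mul])
    exact Subtype.ext ((smul_eq_zero.1 hsum.symm).resolve_left (mul_ne_zero h.hU0 hZ0))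
  have := LinearMap.finrank_le_finrank_of_injective hΨ
  rw [Module.finrank_prod, Module.finrank_pi_fintype, Finset.sum_const, Finset.card_univ,
    ← Nat.card_eq_fintype_card, smul_eq_mul] at this
  exact this

/-- No fixed points: the exceptional parameters. -/
theorem of_fix_eq_bot (hp2 : p ≠ 2) (hp0 : (p : K) ≠ 0) [IsAlgClosed K] {q : ℕ} (hq : q.Prime)
    (hU : IsPGroup q U) (hne : ¬ U ≤ Z) (hfix : fix ρ x = ⊥) :
    q = 2 ∧ ∃ n, n ≠ 0 ∧ p ^ (c + 1) = 2 ^ n + 1 ∧ Z.relIndex U = 2 ^ (2 * n) := by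
  classical
  set r := p ^ (c + 1) with hrdef
  haveI : NeZero r := ⟨pow_ne_zero _ P.hp.ne_zero⟩
  have hr0 : (r : K) ≠ 0 := by rw [hrdef, Nat.cast_pow]; exact pow_ne_zero _ hp0
  haveI : NeZero (r : K) := ⟨hr0⟩
  obtain ⟨ω, hω⟩ := HasEnoughRootsOfUnity.exists_primitiveRoot K r
  have hxr : ρ x ^ r = 1 := by rw [← map_pow, P.hxr, map_one]
  obtain ⟨hN, hM⟩ := exists_eigen_dims (ρ x) hxr hr0 hω
  set M : Fin r → ℕ := fun i => Module.finrank K (Module.End.eigenspace (ρ x) (ω ^ (i : ℕ)))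
  obtain ⟨n, hn⟩ := h.exists_index_eq hq hU
  obtain ⟨o, ho, he⟩ := P.comm_dim_le h
  have hM0 : M 0 = 0 := by
    show Module.finrank K (Module.End.eigenspace (ρ x) (ω ^ ((0 : Fin r) : ℕ))) = 0
    rw [Fin.val_zero, pow_zero, ← fix_eq_eigenspace, hfix, finrank_bot]
  have hcs : (Module.finrank K W) ^ 2 ≤ (r - 1) * Module.finrank K (comm (ρ x)) := by
    have h1 := sq_sum_le_card_mul_sum_sq (s := Finset.univ.erase (0 : Fin r)) (f := M)
    rw [Finset.sum_erase _ hM0, Finset.sum_erase _ (by rw [hM0]; rfl), hN,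
      Finset.card_erase_of_mem (Finset.mem_univ _), Finset.card_univ, Fintype.card_fin] at h1
    exact h1.trans (Nat.mul_le_mul le_rfl hM)
  have hb := h.index_mul_le
  have hpos := h.finrank_commS_pos
  have hbt : Module.finrank K ↥(commS ρ U ⊓ comm (ρ x)) ≤ Module.finrank K (commS ρ U) :=
    Submodule.finrank_mono inf_le_left
  set b := Module.finrank K (commS ρ U)
  set X := Z.relIndex U with hX
  have hn0 : n ≠ 0 := by
    rintro rfl
    exact hne (Subgroup.relIndex_eq_one.1 (by rw [← hX, hn]; simp))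
  have h1 : X ≤ (r - 1) * (1 + o) := by
    refine Nat.le_of_mul_le_mul_right ?_ hpos
    calc X * b ≤ (r - 1) * Module.finrank K (comm (ρ x)) := hb.trans hcs
      _ ≤ (r - 1) * (b + o * b) := Nat.mul_le_mul le_rfl (he.trans (by omega))
      _ = (r - 1) * (1 + o) * b := by ring
  have hr2 : 2 ≤ r := by rw [hrdef]; exact P.hp.two_le.trans (Nat.le_self_pow (Nat.succ_ne_zero c) p)
  obtain ⟨s, hs⟩ : ∃ s, r = s + 1 := ⟨r - 1, by omega⟩
  rw [hs, Nat.add_sub_cancel] at h1
  rw [← hrdef, hs] at ho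
  have h2 : X ≤ s ^ 2 := by nlinarith
  have hQ2 : (q ^ n) ^ 2 = X := hn.symm
  have hQs : q ^ n < r := by
    by_contra hlt
    push Not at hlt
    nlinarith
  have hdvd : r ∣ (q ^ n + 1) * (q ^ n - 1) := by
    rw [← Nat.sq_sub_sq, one_pow, hQ2, ho, hs]
    exact ⟨o, by rw [add_comm 1, Nat.add_sub_cancel, mul_comm]⟩
  obtain ⟨hq2, hr'⟩ := exceptional_params P.hp hp2 hq hn0 hdvd hQs
  subst hq2
  exact ⟨rfl, n, hn0, hr', by rw [← hQ2, ← pow_mul, mul_comm]⟩

end PowOp

end CfsgLib.HallHigman.FpfPower
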