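import Cfsg.Agent.Lib.BG.FixedLine.Mono
import Cfsg.Agent.Lib.HallHigman.FpfPower.Count

/-!
One homogeneous component: the operator power that stabilizes it forces the exceptional index.
-/

set_option autoImplicit false
set_option linter.style.haveILetI false
set_option linter.unusedSectionVars false

open scoped commutatorElement

namespace CfsgLib.HallHigman.FpfPower

open CfsgLib.BG.FixedLine

variable {K W Y : Type*} [Field K] [IsAlgClosed K] [AddCommGroup W] [Module K W] [Group Y] [Finite Y]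
  (ρ : Y →* Module.End K W)

/-- An orbit of components of length `M` whose return map fixes a vector gives a fixed vector. -/
theorem no_fixed_comp {A : Subgroup Y} (hA0 : (Nat.card A : K) ≠ 0)
    (xn : Subgroup.normalizer (A : Set Y)) (hfix : fix ρ (xn : Y) = ⊥) {μ : Chi K A} {M : ℕ}
    (hM : 0 < M) (hμ : ∀ i, 0 < i → i < M → xn ^ i • μ ≠ μ) {v : W} (hv : v ∈ comp ρ A μ)
    (hMv : ρ ((xn : Y) ^ M) v = v) : v = 0 := by
  have hf : (∑ i ∈ Finset.range M, ρ ((xn : Y) ^ i) v) ∈ fix ρ (xn : Y) := by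
    rw [mem_fix, map_sum]
    simp only [← rho_mul, ← pow_succ']
    have h1 := Finset.sum_range_succ' (fun i => ρ ((xn : Y) ^ i) v) M
    have h2 := Finset.sum_range_succ (fun i => ρ ((xn : Y) ^ i) v) M
    simp only [pow_zero, map_one, Module.End.one_apply, hMv] at h1 h2
    exact add_right_cancel (h1.symm.trans h2)
  rw [hfix, Submodule.mem_bot] at hf
  have h1 := congrArg (proj ρ A μ) hf
  rw [map_sum, map_zero, Finset.sum_eq_single 0] at h1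
  · rw [pow_zero, map_one, Module.End.one_apply, proj_self ρ A hv] at h1
    exact (smul_eq_zero.1 h1).resolve_left hA0
  · intro i hi hi0
    have := rho_mem_comp ρ A (xn ^ i) hv
    rw [Subgroup.coe_pow] at this
    exact proj_other ρ A (fun e => hμ i (Nat.pos_of_ne_zero hi0) (Finset.mem_range.1 hi) e.symm) this
  · intro h; exact absurd (Finset.mem_range.2 hM) h

theorem smul_chi_eq_iff {A : Subgroup Y} (g : Subgroup.normalizer (A : Set Y)) (μ : Chi K A) :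
    g • μ = μ ↔ ∀ a : A, μ (CfsgLib.Coprime.conjAct le_rfl g⁻¹ a) = μ a :=
  ⟨fun h a => DFunLike.congr_fun h a, fun h => MonoidHom.ext h⟩

/-- A character of `Z` as a function on the group. -/
noncomputable def ext {Z : Subgroup Y} (μ : Chi K Z) (g : Y) : K :=
  haveI := Classical.dec (g ∈ Z)
  if h : g ∈ Z then (μ ⟨g, h⟩ : K) else 0

theorem ext_eq {Z : Subgroup Y} (μ : Chi K Z) {g : Y} (h : g ∈ Z) : ext μ g = (μ ⟨g, h⟩ : K) := by
  simp [ext, h]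

theorem ext_mul {Z : Subgroup Y} (μ : Chi K Z) {a b : Y} (ha : a ∈ Z) (hb : b ∈ Z) :
    ext μ (a * b) = ext μ a * ext μ b := by
  rw [ext_eq μ ha, ext_eq μ hb, ext_eq μ (Z.mul_mem ha hb), ← Units.val_mul, ← map_mul]
  rfl

theorem ext_one {Z : Subgroup Y} (μ : Chi K Z) : ext μ 1 = 1 := by
  rw [ext_eq μ Z.one_mem, show (⟨1, Z.one_mem⟩ : Z) = 1 from rfl, map_one, Units.val_one]

theorem ext_ne_zero {Z : Subgroup Y} (μ : Chi K Z) {a : Y} (ha : a ∈ Z) : ext μ a ≠ 0 := by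
  rw [ext_eq μ ha]; exact Units.ne_zero _

theorem ext_conj {Z : Subgroup Y} (μ : Chi K Z) (g : Subgroup.normalizer (Z : Set Y)) (hg : g • μ = μ)
    {z : Y} (hz : z ∈ Z) : ext μ ((g : Y) * z * (g : Y)⁻¹) = ext μ z := by
  have hz' : (g : Y) * z * (g : Y)⁻¹ ∈ Z := ((Subgroup.mem_normalizer_iff.1 g.2) z).1 hz
  rw [ext_eq μ hz', ext_eq μ hz]
  congr 1
  refine ((smul_chi_eq_iff g μ).1 hg ⟨_, hz'⟩).symm.trans ?_
  congr 1
  apply Subtype.ext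
  rw [CfsgLib.Coprime.coe_conjAct]
  simp only [Subgroup.coe_inv, inv_inv]
  group

/-- Data of one component. -/
structure Block (U Z : Subgroup Y) (x y : Y) (p c q : ℕ) (μ : Chi K Z) : Prop where
  hp : p.Prime
  hp2 : p ≠ 2
  hp0 : (p : K) ≠ 0
  hq : q.Prime
  hq0 : (q : K) ≠ 0
  hU : IsPGroup q U
  hxr : x ^ p ^ (c + 1) = 1
  hy : y = x ^ p ^ c
  hxU : ∀ u ∈ U, x * u * x⁻¹ ∈ U
  hZU : Z ≤ U
  hxZ : ∀ z ∈ Z, x * z * x⁻¹ ∈ Z
  hcen : ∀ z ∈ Z, ∀ u ∈ U, z * u = u * z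
  hder : ∀ u ∈ U, ∀ v ∈ U, ⁅u, v⁆ ∈ Z
  hyZ : ∀ z ∈ Z, y * z = z * y
  hyU : ∀ u ∈ U, ⁅y, u⁆ ∈ Z → u ∈ Z
  hxμ : ∀ z ∈ Z, ext μ (x * z * x⁻¹) = ext μ z
  hμ : comp ρ Z μ ≠ ⊥
  hnontriv : ∃ a ∈ U, ∃ b ∈ U, ext μ ⁅a, b⁆ ≠ 1
  hfix : ∀ v ∈ comp ρ Z μ, ρ x v = v → v = 0

variable {ρ}

namespace Block

variable {U Z : Subgroup Y} {x y : Y} {p c q : ℕ} {μ : Chi K Z} (B : Block ρ U Z x y p c q μ)

include B

theorem comm_mul_left {a b v : Y} (ha : a ∈ U) (hb : b ∈ U) (hv : v ∈ U) :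
    ⁅a * b, v⁆ = ⁅a, v⁆ * ⁅b, v⁆ := by
  calc ⁅a * b, v⁆ = a * ⁅b, v⁆ * a⁻¹ * ⁅a, v⁆ := by simp only [commutatorElement_def]; group
    _ = ⁅b, v⁆ * ⁅a, v⁆ := by rw [← B.hcen _ (B.hder b hb v hv) a ha, mul_inv_cancel_right]
    _ = _ := B.hcen _ (B.hder b hb v hv) _ (B.hZU (B.hder a ha v hv))

/-- The radical of the form. -/
def rad : Subgroup Y where
  carrier := {u | u ∈ U ∧ ∀ v ∈ U, ext μ ⁅u, v⁆ = 1}
  one_mem' := ⟨U.one_mem, fun v _ => by rw [commutatorElement_one_left, ext_one]⟩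
  mul_mem' {a b} ha hb := ⟨U.mul_mem ha.1 hb.1, fun v hv => by
    rw [B.comm_mul_left ha.1 hb.1 hv, ext_mul μ (B.hder a ha.1 v hv) (B.hder b hb.1 v hv), ha.2 v hv,
      hb.2 v hv, one_mul]⟩
  inv_mem' {a} ha := ⟨U.inv_mem ha.1, fun v hv => by
    have h := B.comm_mul_left (U.inv_mem ha.1) ha.1 hv
    rw [inv_mul_cancel, commutatorElement_one_left] at h
    have h' := congrArg (ext μ) h
    rw [ext_one, ext_mul μ (B.hder a⁻¹ (U.inv_mem ha.1) v hv) (B.hder a ha.1 v hv), ha.2 v hv,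
      mul_one] at h'
    exact h'.symm⟩

theorem mem_rad {u : Y} : u ∈ B.rad ↔ u ∈ U ∧ ∀ v ∈ U, ext μ ⁅u, v⁆ = 1 := Iff.rfl

theorem le_rad : Z ≤ B.rad := fun z hz => ⟨B.hZU hz, fun v hv => by
  rw [commutatorElement_eq_one_iff_mul_comm.2 (B.hcen z hz v hv), ext_one]⟩

theorem conj_pow_mem {S : Subgroup Y} (hS : ∀ s ∈ S, x * s * x⁻¹ ∈ S) (k : ℕ) {s : Y} (hs : s ∈ S) :
    x ^ k * s * (x ^ k)⁻¹ ∈ S := by
  induction k with
  | zero => simpa using hs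
  | succ k ih =>
    have h := hS _ ih
    rwa [show x ^ (k + 1) * s * (x ^ (k + 1))⁻¹ = x * (x ^ k * s * (x ^ k)⁻¹) * x⁻¹ by
      rw [pow_succ']; group]

theorem conj_rad : ∀ u ∈ B.rad, x * u * x⁻¹ ∈ B.rad := by
  rintro u ⟨hu, hu'⟩
  refine ⟨B.hxU u hu, fun v hv => ?_⟩
  obtain ⟨v', hv', rfl⟩ : ∃ v' ∈ U, x * v' * x⁻¹ = v := by
    refine ⟨x⁻¹ * v * x, ?_, by group⟩
    have := ((Subgroup.mem_normalizer_iff.1 (inv_mem (mem_normalizer_of_conj B.hxU))) v).1 hv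
    rwa [inv_inv] at this
  rw [show ⁅x * u * x⁻¹, x * v' * x⁻¹⁆ = x * ⁅u, v'⁆ * x⁻¹ by simp only [commutatorElement_def]; group,
    B.hxμ _ (B.hder u hu v' hv'), hu' v' hv']

theorem mem_of_comm_y {u v : Y} (hu : u ∈ U) (hv : v ∈ U) :
    ⁅y, u⁆⁻¹ * ⁅y, v⁆ ∈ Z ↔ u⁻¹ * v ∈ Z := by
  have hyu : ∀ {w : Y}, w ∈ U → ⁅y, w⁆ ∈ U := fun {w} hw => by
    have h1 : y * w * y⁻¹ ∈ U := by rw [B.hy]; exact conj_pow_mem B B.hxU _ hw
    exact U.mul_mem h1 (U.inv_mem hw)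
  obtain ⟨d, hd, rfl⟩ : ∃ d ∈ U, v = u * d := ⟨u⁻¹ * v, U.mul_mem (U.inv_mem hu) hv, by group⟩
  have h1 : ⁅y, u * d⁆ = ⁅y, u⁆ * (⁅u, ⁅y, d⁆⁆ * ⁅y, d⁆) := by
    simp only [commutatorElement_def]; group
  rw [h1, inv_mul_cancel_left, inv_mul_cancel_left]
  constructor
  · intro h
    exact B.hyU d hd ((Subgroup.mul_mem_cancel_left _ (B.hder u hu _ (hyu hd))).1 h)
  · intro h
    refine Z.mul_mem (B.hder u hu _ (hyu hd)) ?_
    rw [commutatorElement_eq_one_iff_mul_comm.2 (B.hyZ d h)]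
    exact Z.one_mem

theorem y_comm_rad {r : Y} (hr : r ∈ B.rad) : ⁅y, r⁆ ∈ B.rad := by
  have h := conj_pow_mem B B.conj_rad (p ^ c) hr
  have e : ⁅y, r⁆ = x ^ p ^ c * r * (x ^ p ^ c)⁻¹ * r⁻¹ :=
    congrArg (fun t => t * r * t⁻¹ * r⁻¹) B.hy
  exact e ▸ mul_mem h (inv_mem hr)

/-- Every element of the radical is a commutator with `y` modulo `Z`. -/
theorem exists_comm_y {r : Y} (hr : r ∈ B.rad) : ∃ w ∈ B.rad, ⁅y, w⁆⁻¹ * r ∈ Z := by
  let T := {i : Y ⧸ Z // ∃ w ∈ B.rad, (w : Y ⧸ Z) = i}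
  let F : T → T := fun t => ⟨((⁅y, t.2.choose⁆ : Y) : Y ⧸ Z), ⁅y, t.2.choose⁆,
    B.y_comm_rad t.2.choose_spec.1, rfl⟩
  have hF : Function.Injective F := fun s t e => by
    have e' := QuotientGroup.eq.1 (congrArg Subtype.val e)
    apply Subtype.ext
    rw [← s.2.choose_spec.2, ← t.2.choose_spec.2]
    exact QuotientGroup.eq.2 ((B.mem_of_comm_y s.2.choose_spec.1.1 t.2.choose_spec.1.1).1 e')
  obtain ⟨t, ht⟩ := (Finite.injective_iff_surjective.1 hF) ⟨(r : Y ⧸ Z), r, hr, rfl⟩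
  exact ⟨t.2.choose, t.2.choose_spec.1, QuotientGroup.eq.1 (congrArg Subtype.val ht)⟩

theorem mem_stab_comp {g : Y} (hg : g ∈ Subgroup.normalizer (Z : Set Y))
    (hgμ : ∀ z ∈ Z, ext μ (g⁻¹ * z * g) = ext μ z) : g ∈ stab ρ (comp ρ Z μ) := by
  intro v hv
  have h := rho_mem_comp ρ Z ⟨g, hg⟩ hv
  rwa [(smul_chi_eq_iff ⟨g, hg⟩ μ).2 fun a => Units.ext (by
    have hz : g⁻¹ * (a : Y) * g ∈ Z := by
      have := ((Subgroup.mem_normalizer_iff.1 (inv_mem hg)) (a : Y)).1 a.2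
      rwa [inv_inv] at this
    have := hgμ a a.2
    rw [ext_eq μ hz, ext_eq μ a.2] at this
    refine Eq.trans (congrArg (fun t : Z => (μ t : K)) (Subtype.ext ?_)) this
    rw [CfsgLib.Coprime.coe_conjAct]
    simp)] at h

theorem x_mem_stab : x ∈ stab ρ (comp ρ Z μ) := by
  refine B.mem_stab_comp (mem_normalizer_of_conj B.hxZ) fun z hz => ?_
  have hz' : x⁻¹ * z * x ∈ Z := by
    have := ((Subgroup.mem_normalizer_iff.1 (inv_mem (mem_normalizer_of_conj B.hxZ))) z).1 hz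
    rwa [inv_inv] at this
  rw [← B.hxμ _ hz', show x * (x⁻¹ * z * x) * x⁻¹ = z by group]

theorem le_stab : U ≤ stab ρ (comp ρ Z μ) := fun u hu => by
  refine B.mem_stab_comp (mem_normalizer_of_conj fun z hz => ?_) fun z hz => ?_
  · rwa [← B.hcen z hz u hu, mul_inv_cancel_right]
  · rw [mul_assoc, B.hcen z hz u hu, inv_mul_cancel_left]

variable [FiniteDimensional K W]

/-- The index of the radical. -/
theorem rad_relIndex : q = 2 ∧ ∃ k, k ≠ 0 ∧ p ^ (c + 1) = 2 ^ k + 1 ∧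
    B.rad.relIndex U = 2 ^ (2 * k) := by
  classical
  haveI := Fact.mk B.hp
  haveI := Fact.mk B.hq
  set E := comp ρ Z μ with hE
  haveI : Nontrivial E := (Submodule.nontrivial_iff_ne_bot).2 B.hμ
  set S := stab ρ E with hS
  have hxS : x ∈ S := B.x_mem_stab
  have hUS : U ≤ S := B.le_stab
  have hyS : y ∈ S := B.hy ▸ S.pow_mem hxS _
  have hRU : B.rad ≤ U := fun u hu => hu.1
  let f := (res ρ E).toHomUnits
  let σ : f.range →* Module.End K E := (Units.coeHom (Module.End K E)).comp f.range.subtype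
  have hσ : Function.Injective σ := fun a b h => Subtype.ext (Units.ext h)
  haveI : Finite f.range := Finite.of_surjective f.rangeRestrict f.rangeRestrict_surjective
  let g := f.rangeRestrict
  have hσg : ∀ (s : S) (v : E), ((σ (g s) v : E) : W) = ρ (s : Y) v := fun s v => rfl
  have hZscal : ∀ z (hz : z ∈ Z), σ (g ⟨z, hUS (B.hZU hz)⟩) = ext μ z • 1 := fun z hz =>
    LinearMap.ext fun v => Subtype.ext (by
      rw [hσg, LinearMap.smul_apply, Module.End.one_apply, Submodule.coe_smul, ext_eq μ hz]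
      exact v.2 ⟨z, hz⟩)
  have hscal_inj : ∀ {a b : K}, (a • (1 : Module.End K E)) = b • 1 → a = b := fun {a b} h =>
    smul_left_injective K (one_ne_zero (α := Module.End K E)) h
  have hgcomm : ∀ (a b : S), g ⁅a, b⁆ = ⁅g a, g b⁆ := fun a b => map_commutatorElement g a b
  -- images
  set Ue := (U.subgroupOf S).map g with hUe
  set Re := (B.rad.subgroupOf S).map g with hRe
  set xe := g ⟨x, hxS⟩ with hxe
  set ye := g ⟨y, hyS⟩ with hye
  have hye' : ye = xe ^ p ^ c := by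
    rw [hxe, hye, ← map_pow]; congr 1; exact Subtype.ext (by simpa using B.hy)
  have hfix : fix σ xe = ⊥ := by
    rw [Submodule.eq_bot_iff]
    intro v hv
    exact Subtype.ext (B.hfix v v.2 ((hσg ⟨x, hxS⟩ v).symm.trans (congrArg Subtype.val hv)))
  have hxer : xe ^ p ^ (c + 1) = 1 := by
    rw [hxe, ← map_pow, show (⟨x, hxS⟩ : S) ^ p ^ (c + 1) = 1 from Subtype.ext (by simpa using B.hxr),
      map_one]
  have hRab : ∀ a ∈ Re, ∀ b ∈ Re, a * b = b * a := by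
    rintro - ⟨⟨a, ha'⟩, ha, rfl⟩ - ⟨⟨b, hb'⟩, hb, rfl⟩
    rw [← commutatorElement_eq_one_iff_mul_comm, ← hgcomm]
    refine hσ ?_
    have hab := B.hder a (hRU ha) b (hRU hb)
    rw [show ⁅(⟨a, ha'⟩ : S), ⟨b, hb'⟩⁆ = ⟨⁅a, b⁆, hUS (B.hZU hab)⟩ from Subtype.ext rfl, hZscal _ hab,
      (show a ∈ B.rad from ha).2 b (hRU (show b ∈ B.rad from hb)), one_smul, map_one]
  have hR0 : (Nat.card Re : K) ≠ 0 :=
    natCast_ne_zero_of_isPGroup (K := K) ((((B.hU.to_le hRU)).of_equiv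
      (Subgroup.subgroupOfEquivOfLe (hRU.trans hUS)).symm).map g) B.hq0
  have hxRe : xe ∈ Subgroup.normalizer (Re : Set f.range) := by
    refine mem_normalizer_of_conj ?_
    rintro - ⟨⟨a, _⟩, ha, rfl⟩
    exact ⟨⟨x, hxS⟩ * ⟨a, _⟩ * ⟨x, hxS⟩⁻¹, B.conj_rad a ha, by rw [map_mul, map_mul, map_inv]⟩
  let xN : Subgroup.normalizer (Re : Set f.range) := ⟨xe, hxRe⟩
  -- `y` centralizes the image of the radical
  have hyR : ∀ a ∈ Re, ye * a = a * ye := by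
    intro a ha
    refine hσ ?_
    rw [map_mul, map_mul]
    refine eq_of_eq_on_comp σ Re hRab hR0 fun ν v hv => ?_
    by_cases hν : xN ^ p ^ c • ν = ν
    · have h1 := rho_mem_comp σ Re (xN ^ p ^ c) hv
      rw [hν, Subgroup.coe_pow, show (xN : f.range) ^ p ^ c = ye from hye'.symm] at h1
      rw [Module.End.mul_apply, Module.End.mul_apply, hv ⟨a, ha⟩, map_smul, h1 ⟨a, ha⟩]
    · have h0 : v = 0 := by
        refine no_fixed_comp σ hR0 xN hfix (M := p ^ (c + 1)) (Nat.pow_pos B.hp.pos)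
          (fun i hi hiM e => hν ?_) hv ?_
        · exact pow_mem_of_pow_mem (H := MulAction.stabilizer _ ν) B.hp
            (show xN ^ p ^ (c + 1) = 1 from Subtype.ext hxer) e
            (fun hd => absurd (Nat.le_of_dvd hi hd) (not_le.2 hiM))
        · rw [show (xN : f.range) = xe from rfl, hxer, map_one, Module.End.one_apply]
      simp [h0]
  -- the radical acts by scalars
  have hRscal : ∀ a ∈ Re, ∃ t : K, σ a = t • 1 := by
    rintro - ⟨⟨r, hrS⟩, hr, rfl⟩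
    obtain ⟨w, hw, hz⟩ := B.exists_comm_y (show r ∈ B.rad from hr)
    refine ⟨ext μ (⁅y, w⁆⁻¹ * r), ?_⟩
    have hwS : w ∈ S := hUS (hRU hw)
    have e : (⟨r, hrS⟩ : S) = ⁅(⟨y, hyS⟩ : S), ⟨w, hwS⟩⁆ * ⟨_, hUS (B.hZU hz)⟩ :=
      Subtype.ext (show r = ⁅y, w⁆ * (⁅y, w⁆⁻¹ * r) by group)
    rw [e, map_mul, map_mul, hgcomm, commutatorElement_eq_one_iff_mul_comm.2 (hyR (g ⟨w, hwS⟩) ⟨⟨w, hwS⟩, hw, rfl⟩),
      map_one, one_mul, hZscal _ hz]
  let lamE : f.range → K := fun a => if h : ∃ t : K, σ a = t • 1 then h.choose else 0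
  have hlamE : ∀ {a : f.range} {t : K}, σ a = t • 1 → lamE a = t := fun {a t} h => by
    have h' : ∃ t : K, σ a = t • 1 := ⟨t, h⟩
    simp only [lamE, dif_pos h']
    exact hscal_inj (h'.choose_spec.symm.trans h)
  have hlamC : ∀ {a b : Y} (ha : a ∈ U) (hb : b ∈ U),
      lamE ⁅g ⟨a, hUS ha⟩, g ⟨b, hUS hb⟩⁆ = ext μ ⁅a, b⁆ := fun {a b} ha hb => by
    refine hlamE ?_
    rw [← hgcomm, show ⁅(⟨a, hUS ha⟩ : S), ⟨b, hUS hb⟩⁆ = ⟨⁅a, b⁆, hUS (B.hZU (B.hder a ha b hb))⟩ from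
      Subtype.ext rfl, hZscal _ (B.hder a ha b hb)]
  have hmem : ∀ {u : Y} (hu : u ∈ U), g ⟨u, hUS hu⟩ ∈ Re → u ∈ B.rad := by
    rintro u hu ⟨⟨r, hrS⟩, hr, he⟩
    refine ⟨hu, fun v hv => ?_⟩
    rw [← hlamC hu hv, ← he, hlamC (hRU (show r ∈ B.rad from hr)) hv, (show r ∈ B.rad from hr).2 v hv]
  have hcentralRe : ∀ z ∈ Re, ∀ a : f.range, z * a = a * z := fun z hz a => by
    obtain ⟨t, ht⟩ := hRscal z hz
    refine hσ ?_
    rw [map_mul, map_mul, ht, smul_mul_assoc, one_mul, mul_smul_comm, mul_one]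
  have hcentral : Central σ Ue Re ye p lamE := by
    refine ⟨B.hp, ?_, ?_, Subgroup.map_mono (fun s hs => hRU hs), fun z hz => (hcentralRe z hz ye).symm,
      fun z hz u _ => hcentralRe z hz u, ?_, fun z hz => ?_, ?_, ?_, ?_⟩
    · rw [hye', ← pow_mul, ← pow_succ, hxer]
    · rintro - ⟨⟨u, _⟩, hu, rfl⟩
      refine ⟨⟨y, hyS⟩ * ⟨u, _⟩ * ⟨y, hyS⟩⁻¹, ?_, by rw [map_mul, map_mul, map_inv]⟩
      show y * u * y⁻¹ ∈ U
      rw [B.hy]
      exact conj_pow_mem B B.hxU _ hu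
    · rintro - ⟨⟨u, _⟩, hu, rfl⟩ - ⟨⟨v, _⟩, hv, rfl⟩
      exact ⟨_, B.le_rad (B.hder u hu v hv), hgcomm _ _⟩
    · obtain ⟨t, ht⟩ := hRscal z hz
      rw [hlamE ht, ht]
    · rintro - ⟨⟨u, hu'⟩, hu, rfl⟩ h
      refine ⟨⟨u, hu'⟩, ⟨hu, fun v hv => ?_⟩, rfl⟩
      exact (hlamC hu hv).symm.trans (h _ ⟨⟨v, hUS hv⟩, hv, rfl⟩)
    · rintro - ⟨⟨u, hu'⟩, hu, rfl⟩ h
      refine ⟨⟨u, hu'⟩, ?_, rfl⟩
      have hyu : ⁅y, u⁆ ∈ U := by
        have h1 : y * u * y⁻¹ ∈ U := by rw [B.hy]; exact conj_pow_mem B B.hxU _ hu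
        exact U.mul_mem h1 (U.inv_mem hu)
      have h1 : g ⟨⁅y, u⁆, hUS hyu⟩ ∈ Re := by
        rw [show (⟨⁅y, u⁆, hUS hyu⟩ : S) = ⁅(⟨y, hyS⟩ : S), ⟨u, hu'⟩⁆ from Subtype.ext rfl, hgcomm]
        exact h
      obtain ⟨w, hw, hz⟩ := B.exists_comm_y (hmem hyu h1)
      have h2 := (B.mem_of_comm_y (hRU hw) hu).1 hz
      show u ∈ B.rad
      have h3 := mul_mem hw (B.le_rad h2)
      rwa [mul_inv_cancel_left] at h3
    · exact natCast_ne_zero_of_isPGroup (K := K)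
        ((B.hU.of_equiv (Subgroup.subgroupOfEquivOfLe hUS).symm).map g) B.hq0
  have hop : PowOp Ue Re xe ye p c := by
    refine ⟨B.hp, hxer, hye', ?_, fun z hz => (hcentralRe z hz xe).symm⟩
    rintro - ⟨⟨u, _⟩, hu, rfl⟩
    exact ⟨⟨x, hxS⟩ * ⟨u, _⟩ * ⟨x, hxS⟩⁻¹, B.hxU u hu, by rw [map_mul, map_mul, map_inv]⟩
  have hUp : IsPGroup q Ue := (B.hU.of_equiv (Subgroup.subgroupOfEquivOfLe hUS).symm).map g
  have hne : ¬ Ue ≤ Re := by
    obtain ⟨a, ha, b, hb, hab⟩ := B.hnontriv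
    exact fun hle => hab ((hmem ha (hle ⟨⟨a, hUS ha⟩, ha, rfl⟩)).2 b hb)
  obtain ⟨hq2, k, hk, hpk, hX⟩ := hop.of_fix_eq_bot hcentral B.hp2 B.hp0 B.hq hUp hne hfix
  refine ⟨hq2, k, hk, hpk, ?_⟩
  rw [← hX, Subgroup.relIndex, Subgroup.relIndex]
  let φ : U →* Ue :=
    { toFun := fun u => ⟨g ⟨u, hUS u.2⟩, _, u.2, rfl⟩
      map_one' := Subtype.ext (map_one g)
      map_mul' := fun a b => Subtype.ext (map_mul g ⟨a, hUS a.2⟩ ⟨b, hUS b.2⟩) }
  have hφ : Function.Surjective φ := by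
    rintro ⟨-, ⟨u, hu'⟩, hu, rfl⟩
    exact ⟨⟨u, hu⟩, rfl⟩
  rw [← Subgroup.index_comap_of_surjective (Re.subgroupOf Ue) hφ]
  congr 1
  ext u
  exact ⟨fun h => ⟨⟨u, hUS u.2⟩, h, rfl⟩, fun h => hmem u.2 h⟩

end Block

end CfsgLib.HallHigman.FpfPower
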