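import Cfsg.Agent.Lib.HallHigman.FpfPower.Key
import Cfsg.Agent.Lib.BG.FittingDerived
import Cfsg.Agent.Lib.PSolvable.Omega
import Cfsg.Agent.Lib.FitLen.Residual
import Cfsg.Prelude.Def_OddOrderLocal

/-!
Fitting height of a solvable `p'`-group with a fixed-point-free operator of `p`-power order.
-/

set_option autoImplicit false
set_option linter.style.haveILetI false
set_option linter.unusedSectionVars false

open scoped commutatorElement

namespace CfsgLib.HallHigman.FpfPower

universe u

variable {X : Type u} [Group X] [Finite X]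

/-- A `p`-element without fixed points on the solvable normal `p'`-subgroup `N`, whose `p ^ n`-th power
has order dividing `p` on `N`. -/
structure FpfOp (x : X) (N : Subgroup X) (p n j : ℕ) : Prop where
  hsol : Group.IsSolvable N
  hp : p.Prime
  hp2 : p ≠ 2
  hpN : ¬ p ∣ Nat.card N
  hxj : x ^ p ^ j = 1
  hC : ∀ g ∈ N, x * g = g * x → g = 1
  hxp : ∀ g ∈ N, x ^ p ^ (n + 1) * g = g * x ^ p ^ (n + 1)

/-- `O_s(N)` in the ambient group. -/
abbrev coreIn (s : ℕ) (N : Subgroup X) : Subgroup X := (Cfsg.pCore s N).map N.subtype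

theorem coreIn_le (s : ℕ) (N : Subgroup X) : coreIn s N ≤ N := Subgroup.map_subtype_le _

theorem coreIn_normal (s : ℕ) (N : Subgroup X) [N.Normal] : (coreIn s N).Normal :=
  PSolvable.normal_map_of_characteristic N _

theorem isPGroup_coreIn (s : ℕ) (N : Subgroup X) : IsPGroup s (coreIn s N) :=
  (Fitting.pCore_isPGroup s).map _

theorem fittingOf_le_self (N : Subgroup X) : Cfsg.fittingOf N ≤ N := Subgroup.map_subtype_le _

theorem fittingOf_le_of_coreIn {N H : Subgroup X} (h : ∀ s : ℕ, s.Prime → coreIn s N ≤ H) :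
    Cfsg.fittingOf N ≤ H := by
  rw [Cfsg.fittingOf, Subgroup.map_le_iff_le_comap]
  exact BG.fitting_le_of_pCore_le fun s hs => Subgroup.map_le_iff_le_comap.1 (h s hs)

theorem fittingOf_normal (N : Subgroup X) [N.Normal] : (Cfsg.fittingOf N).Normal := by
  refine ⟨fun v hv g => ?_⟩
  let φ : N ≃* N := MulAut.conjNormal g
  obtain ⟨w, hw, rfl⟩ := hv
  refine ⟨φ w, ?_, MulAut.conjNormal_apply g w⟩
  haveI := Fitting.fittingSubgroup_normal (G := N)
  have hle : (Cfsg.fittingSubgroup N).map φ.toMonoidHom ≤ Cfsg.fittingSubgroup N :=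
    Fitting.le_fittingSubgroup (Subgroup.Normal.map inferInstance _ φ.surjective)
      (by
        haveI := Fitting.fittingSubgroup_isNilpotent (G := N)
        exact Group.nilpotent_of_mulEquiv
          ((Cfsg.fittingSubgroup N).equivMapOfInjective φ.toMonoidHom φ.injective))
  exact hle (Subgroup.mem_map_of_mem _ hw)

theorem le_fittingOf {N D : Subgroup X} [D.Normal] (hDN : D ≤ N) (hD : Group.IsNilpotent D) :
    D ≤ Cfsg.fittingOf N := by
  haveI := hD
  intro d hd
  exact ⟨⟨d, hDN hd⟩, Fitting.le_fittingSubgroup (Subgroup.normal_subgroupOf (H := N) (N := D))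
    (Group.nilpotent_of_mulEquiv (Subgroup.subgroupOfEquivOfLe hDN).symm) hd, rfl⟩

theorem fittingOf_isNilpotent (N : Subgroup X) : Group.IsNilpotent ↥(Cfsg.fittingOf N) := by
  haveI := Fitting.fittingSubgroup_isNilpotent (G := N)
  exact Group.nilpotent_of_mulEquiv
    ((Cfsg.fittingSubgroup N).equivMapOfInjective N.subtype N.subtype_injective)

theorem eq_one_of_isPGroup_of_not_dvd {p : ℕ} (hp : p.Prime) {N P : Subgroup X}
    (hN : ¬ p ∣ Nat.card N) (hPN : P ≤ N) (hP : IsPGroup p P) {g : X} (hg : g ∈ P) : g = 1 := by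
  haveI := Fact.mk hp
  exact PSolvable.eq_one_of_mem_of_mem hP
    (Nat.coprime_comm.1 (hp.coprime_iff_not_dvd.2 hN)) hg (hPN hg)

theorem commutator_le_frattini_image {s : ℕ} (hs : s.Prime) (R : Subgroup X) [R.Normal]
    (hR : IsPGroup s R) [((frattini R).map R.subtype).Normal] :
    Cfsg.IsElementaryAbelian s (R.map (QuotientGroup.mk' ((frattini R).map R.subtype))) := by
  haveI := Fact.mk hs
  refine ⟨⟨⟨?_⟩⟩, ?_⟩
  · rintro ⟨_, a, ha, rfl⟩ ⟨_, b, hb, rfl⟩
    refine Subtype.ext (commutatorElement_eq_one_iff_commute.1 ?_).eq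
    show ⁅QuotientGroup.mk' _ a, QuotientGroup.mk' _ b⁆ = 1
    rw [← map_commutatorElement, QuotientGroup.mk'_apply, QuotientGroup.eq_one_iff]
    exact ⟨⁅(⟨a, ha⟩ : R), ⟨b, hb⟩⁆, (PSolvable.commutator_le_frattini hR).1
      (Subgroup.commutator_mem_commutator (Subgroup.mem_top _) (Subgroup.mem_top _)), rfl⟩
  · rintro _ ⟨a, ha, rfl⟩
    rw [← map_pow, QuotientGroup.mk'_apply, QuotientGroup.eq_one_iff]
    exact ⟨(⟨a, ha⟩ : R) ^ s, (PSolvable.commutator_le_frattini hR).2 _, rfl⟩

namespace FpfOp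

variable {x : X} {N : Subgroup X} {p n j : ℕ} (h : FpfOp x N p n j)

include h

theorem coprime_of_le {K : Subgroup X} (hK : K ≤ N) :
    (Nat.card (Subgroup.zpowers x)).Coprime (Nat.card K) := by
  rw [Nat.card_zpowers]
  exact (((h.hp.coprime_iff_not_dvd.2 h.hpN).coprime_dvd_right
    (Subgroup.card_dvd_of_le hK)).pow_left j).coprime_dvd_left (orderOf_dvd_of_pow_eq_one h.hxj)

/-- Fixed-point-freeness descends to images. -/
theorem map_fpf {K : Subgroup X} (hK : K ≤ N) (hxK : x ∈ Subgroup.normalizer (K : Set X))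
    {X' : Type*} [Group X'] (f : X →* X') {v : X'} (hv : v ∈ K.map f) (hc : f x * v = v * f x) :
    v = 1 := by
  have hmap := CfsgLib.Coprime.map_inf_centralizer (Subgroup.zpowers_le.2 hxK) (h.coprime_of_le hK)
    (Or.inl inferInstance) f
  rw [inf_centralizer_zpowers_eq_bot (fun g hg => h.hC g (hK hg)), Subgroup.map_bot] at hmap
  have hv' : v ∈ K.map f ⊓ Subgroup.centralizer ((Subgroup.zpowers x).map f : Set X') := by
    refine ⟨hv, ?_⟩
    rintro - ⟨a, ha, rfl⟩
    obtain ⟨i, rfl⟩ := Subgroup.mem_zpowers_iff.1 ha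
    rw [map_zpow]
    exact ((show Commute (f x) v from hc).zpow_left i).eq
  rwa [← hmap, Subgroup.mem_bot] at hv'

/-- The power centralizes each primary part of the second Fitting factor. -/
theorem commutator_mem_fittingOf [N.Normal] {q : ℕ} (hq : q.Prime) {U : Subgroup X} [U.Normal]
    (hUN : U ≤ N)
    (hUq : ∀ u ∈ U, ∃ k : ℕ, u ^ q ^ k ∈ Cfsg.fittingOf N) :
    ∀ u ∈ U, ⁅x ^ p ^ n, u⁆ ∈ Cfsg.fittingOf N := by
  classical
  haveI := Fact.mk hq
  haveI := fittingOf_normal N
  set F := Cfsg.fittingOf N with hF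
  set y := x ^ p ^ n with hy
  obtain ⟨S, hS⟩ := CfsgLib.Coprime.exists_invariant_sylow (p := q)
    (A := Subgroup.zpowers x) (K := U) Subgroup.le_normalizer_of_normal (h.coprime_of_le hUN)
    (Or.inl inferInstance)
  set Q := (S : Subgroup U).map U.subtype with hQdef
  have hQU : Q ≤ U := Subgroup.map_subtype_le _
  have hQ : IsPGroup q Q := S.2.map _
  have hxQ : x ∈ Subgroup.normalizer (Q : Set X) := hS (Subgroup.mem_zpowers x)
  -- `U = F Q`
  have hUFQ : U ≤ F ⊔ Q := by
    rw [← Subgroup.relIndex_eq_one]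
    have h1 : (F ⊔ Q).relIndex U ∣ F.relIndex U := Subgroup.relIndex_dvd_of_le_left U le_sup_left
    have h2 : (F ⊔ Q).relIndex U ∣ Q.relIndex U := Subgroup.relIndex_dvd_of_le_left U le_sup_right
    have h3 : ¬ q ∣ Q.relIndex U := by
      rw [hQdef, Subgroup.relIndex, Subgroup.subgroupOf,
        Subgroup.comap_map_eq_self_of_injective U.subtype_injective]
      exact S.not_dvd_index
    haveI : (F.subgroupOf U).Normal := Subgroup.normal_subgroupOf
    have hpg : IsPGroup q (U ⧸ F.subgroupOf U) := fun g => by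
      obtain ⟨u, rfl⟩ := QuotientGroup.mk'_surjective (F.subgroupOf U) g
      obtain ⟨k, hk⟩ := hUq u u.2
      refine ⟨k, ?_⟩
      rw [← map_pow, QuotientGroup.mk'_apply, QuotientGroup.eq_one_iff, Subgroup.mem_subgroupOf]
      simpa using hk
    obtain ⟨m, hm⟩ := hpg.exists_card_eq
    have hm' : F.relIndex U = q ^ m := hm
    rw [hm'] at h1
    obtain ⟨i, -, hi⟩ := (Nat.dvd_prime_pow hq).1 h1
    rcases Nat.eq_zero_or_pos i with rfl | hi0
    · rw [hi, pow_zero]
    · exact absurd ((hi ▸ dvd_pow_self q hi0.ne').trans h2) h3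
  suffices hgoal : ∀ u ∈ Q, ⁅y, u⁆ ∈ F by
    intro u hu
    let C := (Subgroup.centralizer {QuotientGroup.mk' F y}).comap (QuotientGroup.mk' F)
    have hC : ∀ g, g ∈ C ↔ ⁅y, g⁆ ∈ F := fun g => by
      rw [Subgroup.mem_comap, Subgroup.mem_centralizer_singleton_iff, eq_comm,
        ← commutatorElement_eq_one_iff_mul_comm, ← map_commutatorElement, QuotientGroup.mk'_apply,
        QuotientGroup.eq_one_iff]
    refine (hC u).1 ((hUFQ.trans (sup_le (fun g hg => (hC g).2 ?_) fun g hg => (hC g).2 (hgoal g hg))) hu)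
    rw [show ⁅y, g⁆ = y * g * y⁻¹ * g⁻¹ from rfl]
    exact F.mul_mem (Subgroup.Normal.conj_mem inferInstance g hg y) (F.inv_mem hg)
  intro u hu
  set d := ⁅y, u⁆ with hd
  have hyQ : y ∈ Subgroup.normalizer (Q : Set X) := pow_mem hxQ _
  have hdQ : d ∈ Q := by
    rw [hd, show ⁅y, u⁆ = y * u * y⁻¹ * u⁻¹ from rfl]
    exact Q.mul_mem ((Subgroup.mem_normalizer_iff.1 hyQ u).1 hu) (Q.inv_mem hu)
  by_cases hqp : q = p
  · subst hqp
    rw [eq_one_of_isPGroup_of_not_dvd hq h.hpN (hQU.trans hUN) hQ hdQ]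
    exact F.one_mem
  -- `d` centralizes the other cores
  have hdR : ∀ s : ℕ, s.Prime → s ≠ q → coreIn s N ≤ Subgroup.centralizer {d} := by
    intro s hs hsq
    by_cases hsp : s = p
    · subst hsp
      intro w hw
      rw [eq_one_of_isPGroup_of_not_dvd hs h.hpN (coreIn_le _ N) (isPGroup_coreIn _ N) hw]
      exact Subgroup.one_mem _
    haveI := coreIn_normal s N
    set R := coreIn s N with hR
    haveI hΦ : ((frattini R).map R.subtype).Normal := PSolvable.normal_map_of_characteristic R _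
    set π := QuotientGroup.mk' ((frattini R).map R.subtype) with hπ
    have hRN : R ≤ N := coreIn_le s N
    have key := commutator_mem_centralizer (n := n) (j := j) h.hp h.hp2 hq hs hqp hsp (Ne.symm hsq)
      (V := R.map π) (Q := Q.map π) (x := π x)
      (commutator_le_frattini_image hs R (isPGroup_coreIn s N)) (hQ.map _)
      (by rw [← map_pow, h.hxj, map_one])
      (Subgroup.le_normalizer_map π (Subgroup.mem_map_of_mem π hxQ))
      (Subgroup.le_normalizer_map π (Subgroup.mem_map_of_mem π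
        (Subgroup.le_normalizer_of_normal (H := R) (Subgroup.mem_top x))))
      (by
        haveI : (R.map π).Normal := Subgroup.Normal.map inferInstance π (QuotientGroup.mk'_surjective _)
        exact Subgroup.le_normalizer_of_normal)
      (fun v hv hc => h.map_fpf hRN (Subgroup.le_normalizer_of_normal (Subgroup.mem_top x)) π hv hc)
      (fun v hv hc => h.map_fpf (hQU.trans hUN) hxQ π hv hc)
      (by
        rintro - ⟨k, hk, rfl⟩
        rw [← map_pow, ← map_mul, ← map_mul, h.hxp k (hRN hk)])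
      (π u) (Subgroup.mem_map_of_mem π hu)
    rw [← map_pow, ← map_commutatorElement] at key
    have hcop : (Nat.card (Subgroup.zpowers d)).Coprime (Nat.card (frattini R)) := by
      haveI := Fact.mk hs
      obtain ⟨i, hi⟩ := hQ ⟨d, hdQ⟩
      obtain ⟨m, hm⟩ := ((isPGroup_coreIn s N).to_subgroup (frattini R)).exists_card_eq
      rw [Nat.card_zpowers, hm]
      exact (((Nat.coprime_primes hq hs).2 hsq.symm).pow i m).coprime_dvd_left
        (orderOf_dvd_of_pow_eq_one (congrArg Subtype.val hi))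
    have hcent := CfsgLib.Coprime.le_centralizer_of_frattini (A := Subgroup.zpowers d) (K := R)
      Subgroup.le_normalizer_of_normal hcop fun a ha k hk => by
        obtain ⟨i, rfl⟩ := Subgroup.mem_zpowers_iff.1 ha
        rw [← QuotientGroup.eq_one_iff, ← QuotientGroup.mk'_apply, ← hπ, map_mul, map_mul, map_mul,
          map_inv, map_inv, map_zpow,
          ((show Commute (π d) (π k) from (key (π k) (Subgroup.mem_map_of_mem π hk)).symm).zpow_left i).eq,
          mul_inv_cancel_right, mul_inv_cancel]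
    intro w hw
    exact Subgroup.mem_centralizer_singleton_iff.2 (hcent (Subgroup.mem_zpowers d) w hw)
  -- the centralizer of the other cores in `U` is nilpotent
  haveI := coreIn_normal q N
  set T : Subgroup X := sSup {K | ∃ s : ℕ, s.Prime ∧ s ≠ q ∧ K = coreIn s N} with hT
  haveI : T.Normal := Subgroup.sSup_normal _ fun K ⟨s, _, _, hK⟩ => hK ▸ coreIn_normal s N
  set D := U ⊓ Subgroup.centralizer (T : Set X) with hD
  haveI : D.Normal := Subgroup.normal_inf_normal _ _
  have hdD : d ∈ D := ⟨hQU hdQ, fun t ht => by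
    have hle : T ≤ Subgroup.centralizer {d} := sSup_le fun K ⟨s, hs, hsq, hK⟩ => hK ▸ hdR s hs hsq
    exact Subgroup.mem_centralizer_singleton_iff.1 (hle ht)⟩
  have hFle : F ≤ coreIn q N ⊔ T := fittingOf_le_of_coreIn fun s hs => by
    by_cases hsq : s = q
    · exact hsq ▸ le_sup_left
    · exact le_trans (le_sSup (s := {K : Subgroup X | ∃ s : ℕ, s.Prime ∧ s ≠ q ∧ K = coreIn s N})
        ⟨s, hs, hsq, rfl⟩) le_sup_right
  refine le_fittingOf (inf_le_left.trans hUN) ?_ hdD
  refine Group.of_quotient_center_nilpotent (IsPGroup.isNilpotent (p := q) fun g => ?_)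
  obtain ⟨g, rfl⟩ := QuotientGroup.mk'_surjective (Subgroup.center D) g
  obtain ⟨k, hk⟩ := hUq g g.2.1
  obtain ⟨w, hw, t, ht, hwt⟩ := Subgroup.mem_sup_of_normal_left.1 (hFle hk)
  obtain ⟨m, hm⟩ := isPGroup_coreIn q N ⟨w, hw⟩
  refine ⟨k + m, ?_⟩
  rw [← map_pow, QuotientGroup.mk'_apply, QuotientGroup.eq_one_iff, Subgroup.mem_center_iff]
  intro e
  have hTmem : (g : X) ^ q ^ (k + m) ∈ T := by
    rw [← QuotientGroup.eq_one_iff, ← QuotientGroup.mk'_apply, pow_add, pow_mul, ← hwt, map_pow,
      map_mul, show QuotientGroup.mk' T t = 1 from (QuotientGroup.eq_one_iff t).2 ht, mul_one,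
      ← map_pow, show w ^ q ^ m = 1 from congrArg Subtype.val hm, map_one]
  exact Subtype.ext (by simpa using (e.2.2 _ hTmem).symm)

/-- The power centralizes `N` modulo the Fitting subgroup. -/
theorem commute_quotient [N.Normal] [(Cfsg.fittingOf N).Normal] :
    ∀ g ∈ N.map (QuotientGroup.mk' (Cfsg.fittingOf N)),
      QuotientGroup.mk' (Cfsg.fittingOf N) x ^ p ^ n * g =
        g * QuotientGroup.mk' (Cfsg.fittingOf N) x ^ p ^ n := by
  set F := Cfsg.fittingOf N with hF
  set π := QuotientGroup.mk' F with hπ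
  set y := x ^ p ^ n with hy
  haveI hNb : (N.map π).Normal := Subgroup.Normal.map inferInstance π (QuotientGroup.mk'_surjective _)
  set M := Cfsg.fittingOf (N.map π) with hM
  haveI := fittingOf_normal (N.map π)
  have hsolb : Group.IsSolvable (N.map π) := by
    haveI := h.hsol
    exact Group.isSolvable_of_surjective (f := π.subgroupMap N) (π.subgroupMap_surjective N)
  have hyM : M ≤ Subgroup.centralizer {π y} := fittingOf_le_of_coreIn fun q hq => by
    haveI := coreIn_normal q (N.map π)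
    haveI : ((coreIn q (N.map π)).comap π).Normal := Subgroup.Normal.comap inferInstance π
    have hUN : (coreIn q (N.map π)).comap π ≤ N := by
      refine (Subgroup.comap_mono (coreIn_le q _)).trans ?_
      rw [Subgroup.comap_map_eq, QuotientGroup.ker_mk', sup_eq_left.2 (fittingOf_le_self N)]
    intro g hg
    obtain ⟨u, rfl⟩ := QuotientGroup.mk'_surjective F g
    have h1 := h.commutator_mem_fittingOf hq hUN (fun v hv => by
      obtain ⟨k, hk⟩ := isPGroup_coreIn q (N.map π) ⟨π v, hv⟩
      refine ⟨k, ?_⟩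
      rw [← QuotientGroup.eq_one_iff, ← QuotientGroup.mk'_apply, map_pow]
      exact congrArg Subtype.val hk) u hg
    rw [← QuotientGroup.eq_one_iff, ← QuotientGroup.mk'_apply, ← hπ, map_commutatorElement,
      commutatorElement_eq_one_iff_mul_comm] at h1
    exact Subgroup.mem_centralizer_singleton_iff.2 h1.symm
  have hcM : ∀ m ∈ M, Commute (π y) m := fun m hm =>
    (Subgroup.mem_centralizer_singleton_iff.1 (hyM hm)).symm
  -- the commutators lie in `C(M) ⊓ N = Z(M)`, hence are killed by coprime action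
  set A := Subgroup.zpowers (π y) with hA
  have hAN : A ≤ Subgroup.normalizer (N.map π : Set (X ⧸ F)) := Subgroup.le_normalizer_of_normal
  have hcop : (Nat.card A).Coprime (Nat.card (N.map π)) := by
    rw [hA, Nat.card_zpowers]
    refine ((((h.hp.coprime_iff_not_dvd.2 h.hpN).coprime_dvd_right
      (Subgroup.card_map_dvd N π)).pow_left j).coprime_dvd_left (orderOf_dvd_of_pow_eq_one ?_))
    rw [← map_pow, hy, ← pow_mul, mul_comm, pow_mul, h.hxj, one_pow, map_one]
  have hcomm : ⁅N.map π, A⁆ ≤ M := by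
    refine Subgroup.commutator_le.2 fun g hg a ha => ?_
    have hmem : ⁅g, a⁆ ∈ N.map π := CfsgLib.Coprime.commutator_le_left_of_le_normalizer hAN
      (Subgroup.commutator_mem_commutator hg ha)
    have hcA : ∀ m ∈ M, Commute a m := fun m hm => by
      obtain ⟨i, rfl⟩ := Subgroup.mem_zpowers_iff.1 ha
      exact (hcM m hm).zpow_left i
    have hM' : ∀ m ∈ M, Commute (g * a * g⁻¹) m := fun m hm => by
      have := hcA _ (Subgroup.Normal.conj_mem (inferInstance : M.Normal) m hm g⁻¹)
      have h2 := this.map (MulAut.conj g).toMonoidHom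
      simpa [mul_assoc] using h2
    have h3 : ⁅g, a⁆ ∈ N.map π ⊓ Subgroup.centralizer (M : Set (X ⧸ F)) :=
      ⟨hmem, fun m hm => ((hM' m hm).mul_left (hcA m hm).inv_left).eq.symm⟩
    obtain ⟨z, hz⟩ : ∃ z : N.map π, (z : X ⧸ F) = ⁅g, a⁆ := ⟨⟨_, hmem⟩, rfl⟩
    haveI := hsolb
    refine ⟨z, PSolvable.centralizer_fittingSubgroup_le fun f hf => Subtype.ext ?_, hz⟩
    simpa [hz] using h3.2 f (Subgroup.mem_map_of_mem (N.map π).subtype hf)
  have h0 : ⁅N.map π, A⁆ = ⊥ := by
    rw [← CfsgLib.Coprime.commutator_commutator_eq hAN hcop (Or.inl inferInstance)]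
    refine Subgroup.commutator_eq_bot_iff_le_centralizer.2 fun m hm a ha => ?_
    obtain ⟨i, rfl⟩ := Subgroup.mem_zpowers_iff.1 ha
    exact ((hcM m (hcomm hm)).zpow_left i).eq
  intro g hg
  rw [← map_pow, ← hy]
  exact Subgroup.commutator_eq_bot_iff_le_centralizer.1 h0 hg (π y) (Subgroup.mem_zpowers _)

end FpfOp

/-- Fitting height at most `n`. -/
theorem iterResid_eq_bot {p : ℕ} (hp : p.Prime) (hp2 : p ≠ 2) (n j : ℕ) :
    ∀ {X : Type u} [Group X] [Finite X] (x : X) (N : Subgroup X), N.Normal → Group.IsSolvable N →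
      ¬ p ∣ Nat.card N → x ^ p ^ j = 1 → (∀ g ∈ N, x * g = g * x → g = 1) →
      (∀ g ∈ N, x ^ p ^ n * g = g * x ^ p ^ n) → FitLen.iterResid n N = ⊥ := by
  induction n with
  | zero =>
    intro X _ _ x N _ _ _ _ hC hxp
    exact le_bot_iff.1 fun g hg => hC g hg (by simpa using hxp g hg)
  | succ n ih =>
    intro X _ _ x N hN hsol hpN hxj hC hxp
    have h : FpfOp x N p n j := ⟨hsol, hp, hp2, hpN, hxj, hC, hxp⟩
    haveI := fittingOf_normal N
    have hres := ih (QuotientGroup.mk' (Cfsg.fittingOf N) x) (N.map (QuotientGroup.mk' _))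
      (Subgroup.Normal.map hN _ (QuotientGroup.mk'_surjective _))
      (by
        haveI := hsol
        exact Group.isSolvable_of_surjective (MonoidHom.subgroupMap_surjective _ N))
      (fun hd => hpN (hd.trans (Subgroup.card_map_dvd N _)))
      (by rw [← map_pow, hxj, map_one])
      (fun g hg hc => h.map_fpf le_rfl (Subgroup.le_normalizer_of_normal (Subgroup.mem_top x)) _ hg hc)
      h.commute_quotient
    rw [← FitLen.iterResid_map, Subgroup.map_eq_bot_iff, QuotientGroup.ker_mk'] at hres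
    rw [FitLen.iterResid_succ]
    refine le_bot_iff.1 ((FitLen.resid_mono hres).trans ?_)
    exact (FitLen.resid_eq_bot_iff.2 (fittingOf_isNilpotent N)).le

end CfsgLib.HallHigman.FpfPower
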