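import Cfsg.Agent.Lib.HallHigman.FpfPower.Linear
import Cfsg.Agent.Lib.BG.FixedLine.Dual

/-!
Group form: a `p`-element without fixed points on an elementary abelian group and on a `q`-group
acting on it.
-/

set_option autoImplicit false
set_option linter.style.haveILetI false
set_option linter.unusedSectionVars false

open scoped commutatorElement

namespace CfsgLib.HallHigman.FpfPower

open CfsgLib.BG.FixedLine

variable {X : Type*} [Group X] [Finite X]

theorem inf_centralizer_zpowers_eq_bot {x : X} {N : Subgroup X}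
    (h : ∀ g ∈ N, x * g = g * x → g = 1) :
    N ⊓ Subgroup.centralizer (Subgroup.zpowers x : Set X) = ⊥ :=
  le_bot_iff.1 fun g hg => h g hg.1 (hg.2 x (Subgroup.mem_zpowers x))

/-- The smallest nontrivial power of the operator centralizes the `q`-group modulo the kernel. -/
theorem commutator_mem_centralizer {p q r n j : ℕ} (hp : p.Prime) (hp2 : p ≠ 2) (hq : q.Prime)
    (hr : r.Prime) (hqp : q ≠ p) (hrp : r ≠ p) (hqr : q ≠ r) {V Q : Subgroup X} {x : X}
    (hV : Cfsg.IsElementaryAbelian r V) (hQ : IsPGroup q Q) (hxj : x ^ p ^ j = 1)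
    (hxQ : x ∈ Subgroup.normalizer (Q : Set X)) (hxV : x ∈ Subgroup.normalizer (V : Set X))
    (hQV : Q ≤ Subgroup.normalizer (V : Set X)) (hCV : ∀ v ∈ V, x * v = v * x → v = 1)
    (hCQ : ∀ u ∈ Q, x * u = u * x → u = 1)
    (hxp : x ^ p ^ (n + 1) ∈ Subgroup.centralizer (V : Set X)) :
    ∀ u ∈ Q, ⁅x ^ p ^ n, u⁆ ∈ Subgroup.centralizer (V : Set X) := by
  haveI := Fact.mk hr
  set H := Q ⊔ Subgroup.zpowers x with hH
  have hHV : H ≤ Subgroup.normalizer (V : Set X) := sup_le hQV (Subgroup.zpowers_le.2 hxV)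
  haveI := finiteDimensional_dual r (V := V)
  set ρ := dualRep r hHV with hρ
  let φ := ρ.toHomUnits
  let ρ' := (Units.coeHom _).comp φ.range.subtype
  haveI : Finite φ.range := Finite.of_surjective _ φ.rangeRestrict_surjective
  set xH : H := ⟨x, Subgroup.mem_sup_right (Subgroup.mem_zpowers x)⟩ with hxH
  have hρ' : ∀ g : H, ρ' (φ.rangeRestrict g) = ρ g := fun g => MonoidHom.coe_toHomUnits ρ g
  have hinj : Function.Injective ρ' := fun a b h => Subtype.ext (Units.ext h)
  have hxord : orderOf x ∣ p ^ j := orderOf_dvd_of_pow_eq_one hxj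
  have hfix : fix ρ' (φ.rangeRestrict xH) = ⊥ := by
    have h0 : fix ρ xH = ⊥ := fix_dualRep_eq_bot r hV hHV xH
      ((((Nat.coprime_primes hp hr).2 hrp.symm).pow_left j).coprime_dvd_left hxord)
      (le_bot_iff.1 fun v hv => hCV v hv.1 (hv.2 x rfl))
    rw [← h0]
    ext w
    simp only [mem_fix, hρ']
  have hxUmem : ∀ u : H, u ∈ Q.subgroupOf H → xH * u * xH⁻¹ ∈ Q.subgroupOf H := fun u hu =>
    (Subgroup.mem_normalizer_iff.1 hxQ u).1 hu
  have hA : Subgroup.zpowers xH ≤ Subgroup.normalizer ((Q.subgroupOf H : Subgroup H) : Set H) :=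
    zpowers_le_normalizer hxUmem
  have hcop : (Nat.card (Subgroup.zpowers xH)).Coprime (Nat.card (Q.subgroupOf H)) := by
    haveI := Fact.mk hq
    obtain ⟨i, hi⟩ := (hQ.of_equiv (Subgroup.subgroupOfEquivOfLe (H := Q) (K := H) le_sup_left).symm).exists_card_eq
    rw [hi, Nat.card_zpowers, ← Subgroup.orderOf_coe]
    exact (((Nat.coprime_primes hp hq).2 hqp.symm).pow j i).coprime_dvd_left hxord
  have hmap := CfsgLib.Coprime.map_inf_centralizer hA hcop (Or.inl inferInstance) φ.rangeRestrict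
  have hbot : Q.subgroupOf H ⊓ Subgroup.centralizer (Subgroup.zpowers xH : Set H) = ⊥ :=
    inf_centralizer_zpowers_eq_bot fun g hg h => Subtype.ext (hCQ g hg (congrArg Subtype.val h))
  rw [hbot, Subgroup.map_bot] at hmap
  have key := commute_of_fpf_inj (ρ := ρ') (x := φ.rangeRestrict xH) (n := n) hinj hp hp2
    (natCast_ne_zero_dual r fun h => hrp ((Nat.prime_dvd_prime_iff_eq hr hp).1 h)) hq
    (natCast_ne_zero_dual r fun h => hqr ((Nat.prime_dvd_prime_iff_eq hr hq).1 h).symm) hqp
    (hinj (by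
      rw [← map_pow, hρ', map_one]
      exact (dualRep_eq_one_iff r hV hHV (xH ^ p ^ (n + 1))).2 (by simpa [hxH] using hxp)))
    hfix ((Q.subgroupOf H).map φ.rangeRestrict)
    ((hQ.of_equiv (Subgroup.subgroupOfEquivOfLe le_sup_left).symm).map _)
    (by
      rintro - ⟨u, hu, rfl⟩
      exact ⟨xH * u * xH⁻¹, hxUmem u hu, by simp⟩)
    (fun u hu h => by
      have hu' : u ∈ (Q.subgroupOf H).map φ.rangeRestrict ⊓
          Subgroup.centralizer ((Subgroup.zpowers xH).map φ.rangeRestrict : Set φ.range) := by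
        refine ⟨hu, ?_⟩
        rintro - ⟨a, ha, rfl⟩
        obtain ⟨i, rfl⟩ := Subgroup.mem_zpowers_iff.1 ha
        rw [map_zpow]
        exact ((show Commute (φ.rangeRestrict xH) u from h).zpow_left i).eq
      rwa [← hmap, Subgroup.mem_bot] at hu')
  intro u hu
  set uH : H := ⟨u, Subgroup.mem_sup_left hu⟩ with huH
  have h1 := key _ (Subgroup.mem_map_of_mem _ (show uH ∈ Q.subgroupOf H from hu))
  rw [← map_pow, ← commutatorElement_eq_one_iff_mul_comm, ← map_commutatorElement] at h1
  have h2 := congrArg ρ' h1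
  rw [hρ', map_one] at h2
  simpa [hxH, huH, commutatorElement_def] using (dualRep_eq_one_iff r hV hHV _).1 h2

end CfsgLib.HallHigman.FpfPower
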