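import Cfsg.Agent.Lib.HallHigman.FpfPower.Block

/-!
A fixed-point-free operator of odd prime-power order: its smallest nontrivial power centralizes
every invariant coprime `q`-group on which it has no fixed points.
-/

set_option autoImplicit false
set_option linter.style.haveILetI false
set_option linter.unusedSectionVars false

open scoped commutatorElement

namespace CfsgLib.HallHigman.FpfPower

open CfsgLib.BG.FixedLine

variable {K W Y : Type*} [Field K] [IsAlgClosed K] [AddCommGroup W] [Module K W]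
  [FiniteDimensional K W] [Group Y] [Finite Y] {ρ : Y →* Module.End K W}

theorem conj_pow_mem' {x : Y} {S : Subgroup Y} (hS : ∀ s ∈ S, x * s * x⁻¹ ∈ S) (k : ℕ) {s : Y}
    (hs : s ∈ S) : x ^ k * s * (x ^ k)⁻¹ ∈ S := by
  induction k with
  | zero => simpa using hs
  | succ k ih =>
    have h := hS _ ih
    rwa [show x ^ (k + 1) * s * (x ^ (k + 1))⁻¹ = x * (x ^ k * s * (x ^ k)⁻¹) * x⁻¹ by
      rw [pow_succ']; group]

variable {p q n : ℕ} {x : Y} {U : Subgroup Y}

/-- Standing hypotheses for a minimal moved group. -/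
structure Moved (ρ : Y →* Module.End K W) (U : Subgroup Y) (x : Y) (p q n : ℕ) : Prop where
  hinj : Function.Injective ρ
  hp : p.Prime
  hp2 : p ≠ 2
  hp0 : (p : K) ≠ 0
  hq : q.Prime
  hq0 : (q : K) ≠ 0
  hqp : q ≠ p
  hU : IsPGroup q U
  hxr : x ^ p ^ (n + 1) = 1
  hxU : ∀ u ∈ U, x * u * x⁻¹ ∈ U
  hC : ∀ u ∈ U, x * u = u * x → u = 1
  hfix : fix ρ x = ⊥
  hsmall : ∀ N : Subgroup Y, N < U → (∀ s ∈ N, x * s * x⁻¹ ∈ N) → ∀ s ∈ N, x ^ p ^ n * s = s * x ^ p ^ n
  hmove : ∃ u ∈ U, x ^ p ^ n * u ≠ u * x ^ p ^ n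

namespace Moved

variable (H : Moved ρ U x p q n)

include H

theorem comm_zpowers : ⁅U, Subgroup.zpowers (x ^ p ^ n)⁆ = U := by
  set A := Subgroup.zpowers (x ^ p ^ n) with hA
  have hAU : A ≤ Subgroup.normalizer (U : Set Y) :=
    zpowers_le_normalizer fun u hu => conj_pow_mem' H.hxU _ hu
  have hcop : (Nat.card A).Coprime (Nat.card U) :=
    coprime_zpowers H.hq H.hp H.hqp H.hU (by rw [← pow_mul, ← pow_succ, H.hxr])
  have hle := CfsgLib.Coprime.commutator_le_left_of_le_normalizer hAU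
  by_contra hne
  have hlt := lt_of_le_of_ne hle hne
  have hxA : x ∈ Subgroup.normalizer (A : Set Y) := mem_normalizer_of_conj fun a ha => by
    obtain ⟨i, rfl⟩ := Subgroup.mem_zpowers_iff.1 ha
    rw [((Commute.self_pow x (p ^ n)).zpow_right i).eq, mul_inv_cancel_right]
    exact zpow_mem (Subgroup.mem_zpowers _) _
  have hinv : ∀ s ∈ ⁅U, A⁆, x * s * x⁻¹ ∈ ⁅U, A⁆ := conj_mem_of_le_normalizer
    (CfsgLib.Coprime.le_normalizer_commutator (A := Subgroup.zpowers x) (zpowers_le_normalizer H.hxU)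
      (Subgroup.zpowers_le.2 hxA) (Subgroup.mem_zpowers x))
  have hc : ⁅U, A⁆ ≤ Subgroup.centralizer (A : Set Y) :=
    le_centralizer_zpowers.2 (H.hsmall _ hlt hinv)
  haveI := Fact.mk H.hq
  have hsolv : Group.IsSolvable A ∨ Group.IsSolvable U :=
    Or.inr (by haveI := H.hU.isNilpotent; infer_instance)
  have h0 : ⁅U, A⁆ = ⊥ := by
    rw [← CfsgLib.Coprime.commutator_commutator_eq hAU hcop hsolv]
    exact Subgroup.commutator_eq_bot_iff_le_centralizer.2 hc
  obtain ⟨u, hu, hne'⟩ := H.hmove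
  exact hne' (le_centralizer_zpowers.1 (Subgroup.commutator_eq_bot_iff_le_centralizer.1 h0) u hu)

/-- Proper invariant normal subgroups are central. -/
theorem central {N : Subgroup Y} (hN : N < U) (hxN : ∀ s ∈ N, x * s * x⁻¹ ∈ N)
    (hUN : U ≤ Subgroup.normalizer (N : Set Y)) : ∀ s ∈ N, ∀ u ∈ U, s * u = u * s :=
  central_of_centralizes hUN (le_centralizer_zpowers.2 (H.hsmall N hN hxN)) H.comm_zpowers

theorem not_abelian : ∃ a ∈ U, ∃ b ∈ U, a * b ≠ b * a := by
  by_contra hab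
  push Not at hab
  haveI := Fact.mk H.hq
  have hU0 : (Nat.card U : K) ≠ 0 := natCast_ne_zero_of_isPGroup (K := K) H.hU H.hq0
  have hxN : x ∈ Subgroup.normalizer (U : Set Y) := mem_normalizer_of_conj H.hxU
  let xN : Subgroup.normalizer (U : Set Y) := ⟨x, hxN⟩
  have hcomp : ∀ (μ : Chi K U) (v : W), v ∈ comp ρ U μ → μ ≠ 1 → v = 0 := by
    intro μ v hv hμ
    refine no_fixed_comp ρ hU0 xN H.hfix (M := p ^ (n + 1)) (Nat.pow_pos H.hp.pos)
      (fun i hi hiM e => hμ ?_) hv (by rw [show (xN : Y) = x from rfl, H.hxr, map_one, Module.End.one_apply])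
    have hy : xN ^ p ^ n • μ = μ := pow_mem_of_pow_mem (H := MulAction.stabilizer _ μ) H.hp
      (show xN ^ p ^ (n + 1) = 1 from Subtype.ext H.hxr) e
      (fun hd => absurd (Nat.le_of_dvd hi hd) (not_le.2 hiM))
    have hy' := (smul_chi_eq_iff (xN ^ p ^ n) μ).1 hy
    -- `μ` kills every commutator with `y`
    let ker : Subgroup Y :=
      { carrier := {u | ∃ hu : u ∈ U, μ ⟨u, hu⟩ = 1}
        one_mem' := ⟨U.one_mem, map_one μ⟩
        mul_mem' := fun {a b} ⟨ha, ha'⟩ ⟨hb, hb'⟩ => ⟨U.mul_mem ha hb, by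
          rw [show (⟨a * b, U.mul_mem ha hb⟩ : U) = ⟨a, ha⟩ * ⟨b, hb⟩ from rfl, map_mul, ha', hb', one_mul]⟩
        inv_mem' := fun {a} ⟨ha, ha'⟩ => ⟨U.inv_mem ha, by
          rw [show (⟨a⁻¹, U.inv_mem ha⟩ : U) = ⟨a, ha⟩⁻¹ from rfl, map_inv, ha', inv_one]⟩ }
    have hle : ⁅U, Subgroup.zpowers (x ^ p ^ n)⁆ ≤ ker := by
      refine Subgroup.commutator_le.2 fun u hu a ha => ?_
      obtain ⟨i, rfl⟩ := Subgroup.mem_zpowers_iff.1 ha
      have hst : (xN ^ p ^ n) ^ i • μ = μ :=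
        (MulAction.stabilizer _ μ).zpow_mem (show xN ^ p ^ n ∈ _ from hy) i
      have h1 := (smul_chi_eq_iff _ μ).1 hst ⟨u, hu⟩⁻¹
      have hmem : ⁅u, (x ^ p ^ n) ^ i⁆ ∈ U :=
        CfsgLib.Coprime.commutator_le_left_of_le_normalizer
          (zpowers_le_normalizer fun u hu => conj_pow_mem' H.hxU _ hu)
          (Subgroup.commutator_mem_commutator hu (zpow_mem (Subgroup.mem_zpowers _) i))
      refine ⟨hmem, ?_⟩
      set b : U := CfsgLib.Coprime.conjAct le_rfl ((xN ^ p ^ n) ^ (-i))⁻¹ ⟨u, hu⟩⁻¹ with hb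
      have hb' : μ b = μ ⟨u, hu⟩⁻¹ := by
        have hst' : (xN ^ p ^ n) ^ (-i) • μ = μ :=
          (MulAction.stabilizer _ μ).zpow_mem (show xN ^ p ^ n ∈ _ from hy) (-i)
        exact (smul_chi_eq_iff _ μ).1 hst' _
      rw [show (⟨⁅u, (x ^ p ^ n) ^ i⁆, hmem⟩ : U) = ⟨u, hu⟩ * b from Subtype.ext (by
        rw [Subgroup.coe_mul, hb, CfsgLib.Coprime.coe_conjAct]
        simp only [Subgroup.coe_inv, zpow_neg, inv_inv, SubgroupClass.coe_zpow, Subgroup.coe_pow,
          commutatorElement_def, xN]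
        group), map_mul, hb', map_inv, mul_inv_cancel]
    refine MonoidHom.ext fun u => ?_
    obtain ⟨hu, hu'⟩ := hle (H.comm_zpowers.ge u.2)
    exact hu'
  obtain ⟨u, hu, hne⟩ := H.hmove
  refine hne ?_
  have : ρ u = 1 := eq_of_eq_on_comp ρ U hab hU0 fun μ v hv => by
    by_cases hμ : μ = 1
    · subst hμ
      rw [Module.End.one_apply, hv ⟨u, hu⟩, MonoidHom.one_apply, Units.val_one, one_smul]
    · rw [hcomp μ v hv hμ, map_zero, map_zero]
  rw [H.hinj (this.trans (map_one ρ).symm), mul_one, one_mul]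

theorem contradiction : False := by
  classical
  haveI := Fact.mk H.hq
  haveI := Fact.mk H.hp
  obtain ⟨a₀, ha₀, b₀, hb₀, hab₀⟩ := H.not_abelian
  set y := x ^ p ^ n with hy
  have hxn : x ∈ Subgroup.normalizer (U : Set Y) := mem_normalizer_of_conj H.hxU
  -- the centre
  set Z := U ⊓ Subgroup.centralizer (U : Set Y) with hZ
  have hcen : ∀ z ∈ Z, ∀ u ∈ U, z * u = u * z := fun z hz u hu => (hz.2 u hu).symm
  have hxZ : ∀ z ∈ Z, x * z * x⁻¹ ∈ Z := by
    refine fun z hz => ⟨H.hxU z hz.1, fun u hu => ?_⟩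
    have hu' : x⁻¹ * u * x ∈ U := by
      have := ((Subgroup.mem_normalizer_iff.1 (inv_mem hxn)) u).1 hu
      rwa [inv_inv] at this
    have h := hcen z hz _ hu'
    calc u * (x * z * x⁻¹) = x * ((x⁻¹ * u * x) * z) * x⁻¹ := by group
      _ = x * (z * (x⁻¹ * u * x)) * x⁻¹ := by rw [h]
      _ = x * z * x⁻¹ * u := by group
  have hZlt : Z < U := lt_of_le_of_ne inf_le_left fun e => hab₀ ((e.ge hb₀).2 a₀ ha₀)
  have hyZ : ∀ z ∈ Z, y * z = z * y := H.hsmall Z hZlt hxZ
  -- commutators are central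
  have hDlt : ⁅U, U⁆ < U := by
    haveI := H.hU.isNilpotent
    haveI : Nontrivial U := (Subgroup.nontrivial_iff_ne_bot U).2 fun e => hab₀ (by
      have h1 : a₀ = 1 := by simpa [e] using ha₀
      rw [h1, mul_one, one_mul])
    have h1 := Group.IsSolvable.commutator_lt_top_of_nontrivial U
    have h2 := (Subgroup.map_lt_map_iff_of_injective (f := U.subtype) U.subtype_injective).2 h1
    rwa [← MonoidHom.range_eq_map, Subgroup.range_subtype, Subgroup.map_subtype_commutator] at h2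
  have hDn : U ≤ Subgroup.normalizer ((⁅U, U⁆ : Subgroup Y) : Set Y) :=
    CfsgLib.Coprime.le_normalizer_commutator Subgroup.le_normalizer Subgroup.le_normalizer
  have hxD : ∀ s ∈ ⁅U, U⁆, x * s * x⁻¹ ∈ ⁅U, U⁆ := conj_mem_of_le_normalizer
    (CfsgLib.Coprime.le_normalizer_commutator (zpowers_le_normalizer H.hxU)
      (zpowers_le_normalizer H.hxU) (Subgroup.mem_zpowers x))
  have hder : ∀ u ∈ U, ∀ v ∈ U, ⁅u, v⁆ ∈ Z := fun u hu v hv => by
    have hm := Subgroup.commutator_mem_commutator hu hv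
    exact ⟨hDlt.le hm, fun w hw => (H.central hDlt hxD hDn _ hm w hw).symm⟩
  have hyU' : ∀ u ∈ U, y * u * y⁻¹ ∈ U := fun u hu => conj_pow_mem' H.hxU _ hu
  have hyp : y ^ p = 1 := by rw [hy, ← pow_mul, ← pow_succ, H.hxr]
  -- `y` is fixed-point-free modulo the centre
  have hyU : ∀ u ∈ U, ⁅y, u⁆ ∈ Z → u ∈ Z := by
    let C : Subgroup Y :=
      { carrier := {u | u ∈ U ∧ ⁅y, u⁆ ∈ Z}
        one_mem' := ⟨U.one_mem, by rw [commutatorElement_one_right]; exact Z.one_mem⟩
        mul_mem' := fun {a b} ha hb => ⟨U.mul_mem ha.1 hb.1, by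
          rw [show ⁅y, a * b⁆ = ⁅y, a⁆ * (a * ⁅y, b⁆ * a⁻¹) by simp only [commutatorElement_def]; group,
            ← hcen _ hb.2 a ha.1, mul_inv_cancel_right]
          exact Z.mul_mem ha.2 hb.2⟩
        inv_mem' := fun {a} ha => ⟨U.inv_mem ha.1, by
          rw [show ⁅y, a⁻¹⁆ = a⁻¹ * ⁅y, a⁆⁻¹ * a by simp only [commutatorElement_def]; group,
            mul_assoc, hcen _ (Z.inv_mem ha.2) a ha.1, inv_mul_cancel_left]
          exact Z.inv_mem ha.2⟩ }
    have hCx : ∀ u ∈ C, x * u * x⁻¹ ∈ C := by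
      rintro u ⟨hu, hu'⟩
      refine ⟨H.hxU u hu, ?_⟩
      have e : x * y * x⁻¹ = y := by rw [hy, (Commute.self_pow x (p ^ n)).eq, mul_inv_cancel_right]
      have := hxZ _ hu'
      rwa [show x * ⁅y, u⁆ * x⁻¹ = ⁅x * y * x⁻¹, x * u * x⁻¹⁆ by
        simp only [commutatorElement_def]; group, e] at this
    have hCD : ⁅U, U⁆ ≤ C := fun d hd => ⟨hDlt.le hd, by
      rw [commutatorElement_eq_one_iff_mul_comm.2 (H.hsmall _ hDlt hxD d hd)]
      exact Z.one_mem⟩
    have hCn : U ≤ Subgroup.normalizer (C : Set Y) := fun u hu => mem_normalizer_of_conj fun s hs => by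
      rw [show u * s * u⁻¹ = ⁅u, s⁆ * s by simp only [commutatorElement_def]; group]
      exact C.mul_mem (hCD (Subgroup.commutator_mem_commutator hu hs.1)) hs
    have hClt : C < U := by
      refine lt_of_le_of_ne (fun u hu => hu.1) fun e => ?_
      obtain ⟨u, hu, hne⟩ := H.hmove
      obtain ⟨-, hz⟩ := e.ge hu
      have hkey : ∀ k : ℕ, y ^ k * u * (y ^ k)⁻¹ = ⁅y, u⁆ ^ k * u := by
        intro k
        induction k with
        | zero => simp
        | succ k ih =>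
          rw [show y ^ (k + 1) * u * (y ^ (k + 1))⁻¹ = y * (y ^ k * u * (y ^ k)⁻¹) * y⁻¹ by
            rw [pow_succ']; group, ih, ← mul_assoc, (show Commute y ⁅y, u⁆ from hyZ _ hz).pow_right k,
            pow_succ]
          simp only [commutatorElement_def]
          group
      have h1 := hkey p
      rw [hyp, inv_one, one_mul, mul_one, right_eq_mul] at h1
      obtain ⟨k, hk⟩ := H.hU ⟨_, inf_le_left (a := U) (b := Subgroup.centralizer (U : Set Y)) hz⟩
      have h2 : ⁅y, u⁆ ^ q ^ k = 1 := congrArg Subtype.val hk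
      have h3 : ⁅y, u⁆ = 1 := by
        have hco : Nat.Coprime (q ^ k) p := ((Nat.coprime_primes H.hq H.hp).2 H.hqp).pow_left k
        have h4 := Nat.dvd_gcd (orderOf_dvd_of_pow_eq_one h2) (orderOf_dvd_of_pow_eq_one h1)
        rwa [hco.gcd_eq_one, Nat.dvd_one, orderOf_eq_one_iff] at h4
      exact hne (commutatorElement_eq_one_iff_mul_comm.1 h3)
    intro u hu hu'
    exact ⟨hu, fun w hw => (H.central hClt hCx hCn u ⟨hu, hu'⟩ w hw).symm⟩
  -- a component on which a commutator is moved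
  have hZ0 : (Nat.card Z : K) ≠ 0 := natCast_ne_zero_of_isPGroup (K := K) (H.hU.to_le inf_le_left) H.hq0
  have hZab : ∀ a ∈ Z, ∀ b ∈ Z, a * b = b * a := fun a ha b hb => hcen a ha b hb.1
  obtain ⟨μ, hμne, hμab⟩ : ∃ μ : Chi K Z, comp ρ Z μ ≠ ⊥ ∧ ext μ ⁅a₀, b₀⁆ ≠ 1 := by
    by_contra hno
    push Not at hno
    refine hab₀ (commutatorElement_eq_one_iff_mul_comm.1 (H.hinj ?_))
    rw [map_one]
    refine eq_of_eq_on_comp ρ Z hZab hZ0 fun μ v hv => ?_
    by_cases hbot : comp ρ Z μ = ⊥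
    · rw [hbot, Submodule.mem_bot] at hv
      simp [hv]
    · have h1 := hv ⟨_, hder a₀ ha₀ b₀ hb₀⟩
      rw [← ext_eq μ (hder a₀ ha₀ b₀ hb₀), hno μ hbot, one_smul] at h1
      exact h1
  have hxnZ : x ∈ Subgroup.normalizer (Z : Set Y) := mem_normalizer_of_conj hxZ
  let xN : Subgroup.normalizer (Z : Set Y) := ⟨x, hxnZ⟩
  have hyμ : xN ^ p ^ n • μ = μ := (smul_chi_eq_iff _ μ).2 fun a => by
    congr 1
    apply Subtype.ext
    rw [CfsgLib.Coprime.coe_conjAct]
    show (y : Y)⁻¹ * (a : Y) * y⁻¹⁻¹ = a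
    rw [inv_inv, mul_assoc, ← hyZ _ a.2, inv_mul_cancel_left]
  have hex : ∃ d, xN ^ p ^ d • μ = μ := ⟨n, hyμ⟩
  obtain ⟨d, hd, hdmin⟩ : ∃ d, xN ^ p ^ d • μ = μ ∧ ∀ e < d, xN ^ p ^ e • μ ≠ μ :=
    ⟨Nat.find hex, Nat.find_spec hex, fun e he => Nat.find_min hex he⟩
  have hdn : d ≤ n := by
    by_contra h
    exact hdmin n (not_le.1 h) hyμ
  obtain ⟨c, hc⟩ : ∃ c, n = d + c := ⟨n - d, by omega⟩
  set M := p ^ d with hM
  have hμM : ∀ i, 0 < i → i < M → xN ^ i • μ ≠ μ := by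
    intro i hi hiM e
    rcases Nat.eq_zero_or_pos d with hd0 | hd0
    · rw [hM, hd0, pow_zero] at hiM
      omega
    · refine hdmin (d - 1) (by omega) (pow_mem_of_pow_mem (H := MulAction.stabilizer _ μ) H.hp
        (show xN ^ p ^ (n + 1) = 1 from Subtype.ext H.hxr) e ?_)
      rw [show d - 1 + 1 = d by omega]
      exact fun hdd => absurd (Nat.le_of_dvd hi hdd) (not_le.2 (hM ▸ hiM))
  have hxMμ : ∀ z ∈ Z, ext μ (x ^ M * z * (x ^ M)⁻¹) = ext μ z := fun z hz => ext_conj μ (xN ^ M) hd hz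
  have hxMU : ∀ u ∈ U, x ^ M * u * (x ^ M)⁻¹ ∈ U := fun u hu => conj_pow_mem' H.hxU _ hu
  have hB : Block ρ U Z (x ^ M) y p c q μ :=
    { hp := H.hp, hp2 := H.hp2, hp0 := H.hp0, hq := H.hq, hq0 := H.hq0, hU := H.hU
      hxr := by
        rw [← pow_mul, hM, ← pow_add, show d + (c + 1) = n + 1 by omega]
        exact H.hxr
      hy := by rw [← pow_mul, hM, ← pow_add, ← hc]
      hxU := hxMU
      hZU := inf_le_left
      hxZ := fun z hz => conj_pow_mem' hxZ _ hz
      hcen := hcen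
      hder := hder
      hyZ := hyZ
      hyU := hyU
      hxμ := hxMμ
      hμ := hμne
      hnontriv := ⟨a₀, ha₀, b₀, hb₀, hμab⟩
      hfix := fun v hv e => no_fixed_comp ρ hZ0 xN H.hfix (Nat.pow_pos H.hp.pos) hμM hv e }
  obtain ⟨hq2, k, hk, hpk, hX⟩ := hB.rad_relIndex
  set R := hB.rad with hR
  -- the conjugates of the radical
  let Ri : ℕ → Subgroup Y := fun i => R.comap (MulAut.conj (x ^ i)).toMonoidHom
  have hRi : ∀ i, (Ri i).relIndex U = 2 ^ (2 * k) := by
    intro i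
    show (R.comap (MulAut.conj (x ^ i)).toMonoidHom).relIndex U = _
    rw [Subgroup.relIndex_comap]
    have hmap : U.map (MulAut.conj (x ^ i)).toMonoidHom = U := by
      refine Subgroup.eq_of_le_of_card_ge ?_ ?_
      · rintro - ⟨u, hu, rfl⟩
        exact conj_pow_mem' H.hxU _ hu
      · rw [Subgroup.card_map_of_injective (MulAut.conj (x ^ i)).injective]
    rw [hmap, hX]
  have hZRi : ∀ i, Z ≤ Ri i := fun i z hz => hB.le_rad (conj_pow_mem' hxZ i hz)
  let J : Finset ℕ → Subgroup Y := fun s => U ⊓ ⨅ i ∈ s, Ri i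
  have hJ : ∀ s : Finset ℕ, (J s).relIndex U ≤ (2 ^ (2 * k)) ^ s.card := by
    intro s
    induction s using Finset.induction_on with
    | empty => simp [J]
    | @insert a s ha ih =>
      have e : J (insert a s) = Ri a ⊓ J s := by
        simp only [J, Finset.iInf_insert]
        rw [inf_left_comm]
      rw [e, Finset.card_insert_of_notMem ha, pow_succ']
      exact Subgroup.relIndex_inf_le.trans (Nat.mul_le_mul (hRi a).le ih)
  -- an element in every radical but the first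
  obtain ⟨u, huJ, huR⟩ : ∃ u ∈ J (Finset.Ioo 0 M), u ∉ R := by
    by_contra hno
    push Not at hno
    have hJR : ∀ u ∈ J (Finset.Ioo 0 M), ∀ i, x ^ i * u * (x ^ i)⁻¹ ∈ R := by
      intro u hu i
      induction i using Nat.strong_induction_on with
      | _ i ih =>
        rcases Nat.lt_or_ge i M with hi | hi
        · rcases Nat.eq_zero_or_pos i with rfl | hi0
          · simpa using hno u hu
          · exact (Subgroup.mem_iInf.1 (Subgroup.mem_iInf.1 hu.2 i) (Finset.mem_Ioo.2 ⟨hi0, hi⟩))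
        · have h := hB.conj_rad _ (ih (i - M) (by have := Nat.pow_pos (n := d) H.hp.pos; omega))
          obtain ⟨j, rfl⟩ : ∃ j, i = M + j := ⟨i - M, by omega⟩
          rw [Nat.add_sub_cancel_left] at h
          rwa [show x ^ (M + j) * u * (x ^ (M + j))⁻¹ = x ^ M * (x ^ j * u * (x ^ j)⁻¹) * (x ^ M)⁻¹ by
            rw [pow_add]; group]
    have hJlt : J (Finset.Ioo 0 M) < U := by
      refine lt_of_le_of_ne inf_le_left fun e => ?_
      exact hμab (((hno a₀ (e.ge ha₀)) : a₀ ∈ R).2 b₀ hb₀)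
    have hJx : ∀ s ∈ J (Finset.Ioo 0 M), x * s * x⁻¹ ∈ J (Finset.Ioo 0 M) := by
      intro s hs
      refine ⟨H.hxU s hs.1, Subgroup.mem_iInf.2 fun i => Subgroup.mem_iInf.2 fun _ => ?_⟩
      show x ^ i * (x * s * x⁻¹) * (x ^ i)⁻¹ ∈ R
      rw [show x ^ i * (x * s * x⁻¹) * (x ^ i)⁻¹ = x ^ (i + 1) * s * (x ^ (i + 1))⁻¹ by
        rw [pow_succ]; group]
      exact hJR s hs _
    have hJn : U ≤ Subgroup.normalizer (J (Finset.Ioo 0 M) : Set Y) := fun u hu =>
      mem_normalizer_of_conj fun s hs => by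
        rw [show u * s * u⁻¹ = ⁅u, s⁆ * s by simp only [commutatorElement_def]; group]
        refine (J (Finset.Ioo 0 M)).mul_mem ⟨(hder u hu s hs.1).1, Subgroup.mem_iInf.2 fun i =>
          Subgroup.mem_iInf.2 fun _ => hZRi i (hder u hu s hs.1)⟩ hs
    have hJZ : J (Finset.Ioo 0 M) ≤ Z := fun s hs =>
      ⟨hs.1, fun w hw => (H.central hJlt hJx hJn s hs w hw).symm⟩
    -- the index of the centre is too large
    haveI := Fintype.ofFinite (U ⧸ Z.subgroupOf U)
    let π : U → U ⧸ Z.subgroupOf U := QuotientGroup.mk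
    have hπ : ∀ u v : U, π u = π v ↔ (u : Y)⁻¹ * (v : Y) ∈ Z := fun u v => by
      show QuotientGroup.mk u = QuotientGroup.mk v ↔ _
      rw [QuotientGroup.eq, Subgroup.mem_subgroupOf]
      simp
    let σf : U ⧸ Z.subgroupOf U → U ⧸ Z.subgroupOf U := Quotient.map'
      (fun u : U => ⟨x * (u : Y) * x⁻¹, H.hxU u u.2⟩) (fun u v e => by
        rw [QuotientGroup.leftRel_apply, Subgroup.mem_subgroupOf] at e ⊢
        have := hxZ _ e
        simpa [mul_assoc] using this)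
    have hσf : ∀ (k : ℕ) (u : U), σf^[k] (π u) = π ⟨x ^ k * (u : Y) * (x ^ k)⁻¹, conj_pow_mem' H.hxU k u.2⟩ := by
      intro k
      induction k with
      | zero => intro u; simp
      | succ k ih =>
        intro u
        rw [Function.iterate_succ', Function.comp_apply, ih]
        show π _ = π _
        congr 1
        apply Subtype.ext
        show x * (x ^ k * (u : Y) * (x ^ k)⁻¹) * x⁻¹ = x ^ (k + 1) * (u : Y) * (x ^ (k + 1))⁻¹
        rw [pow_succ']; group
    have hN : σf^[p ^ (n + 1)] = id := funext fun i => by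
      obtain ⟨u, rfl⟩ : ∃ u, π u = i := ⟨i.out, QuotientGroup.out_eq' i⟩
      rw [hσf]
      exact congrArg π (Subtype.ext (by simp [H.hxr]))
    let σ : Equiv.Perm (U ⧸ Z.subgroupOf U) :=
      { toFun := σf
        invFun := σf^[p ^ (n + 1) - 1]
        left_inv := fun i => by
          have h1 := congrFun hN i
          rwa [show p ^ (n + 1) = p ^ (n + 1) - 1 + 1 by have := Nat.pow_pos (n := n + 1) H.hp.pos; omega,
            Function.iterate_succ_apply] at h1
        right_inv := fun i => by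
          have h1 := congrFun hN i
          rwa [show p ^ (n + 1) = p ^ (n + 1) - 1 + 1 by have := Nat.pow_pos (n := n + 1) H.hp.pos; omega,
            Function.iterate_succ_apply'] at h1 }
    have hdvd : p ^ (n + 1) ∣ Z.relIndex U - 1 := by
      refine free_orbits σ H.hp ?_ (π 1) ?_ fun i hi => ?_
      · exact Equiv.ext fun i => by rw [Equiv.Perm.coe_pow]; exact congrFun hN i
      · refine (hσf 1 1).trans (congrArg π (Subtype.ext ?_))
        simp
      · obtain ⟨u, rfl⟩ : ∃ u, π u = i := ⟨i.out, QuotientGroup.out_eq' i⟩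
        rw [Equiv.Perm.coe_pow, show ⇑σ = σf from rfl, hσf, hπ] at hi
        rw [hπ]
        have hu := hyU u u.2 (by
          have h' : (u : Y)⁻¹ * (y * (u : Y) * y⁻¹) ∈ Z := by
            have := Z.inv_mem hi
            simpa [hy, mul_assoc] using this
          rw [show ⁅y, (u : Y)⁆ = (u : Y) * ((u : Y)⁻¹ * (y * (u : Y) * y⁻¹)) * (u : Y)⁻¹ by
            simp only [commutatorElement_def]; group, ← hcen _ h' u u.2, mul_inv_cancel_right]
          exact h')
        simpa using Z.inv_mem hu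
    obtain ⟨t, ht⟩ : ∃ t, Nat.card U = 2 ^ t := by
      obtain ⟨t, ht⟩ := H.hU.exists_card_eq
      exact ⟨t, hq2 ▸ ht⟩
    obtain ⟨a, -, ha⟩ := (Nat.dvd_prime_pow Nat.prime_two).1 (ht ▸ Z.relIndex_dvd_card U)
    have ha0 : 0 < a := by
      rcases Nat.eq_zero_or_pos a with rfl | h
      · exact absurd (Subgroup.relIndex_eq_one.1 ha) hZlt.not_ge
      · exact h
    rw [ha] at hdvd
    have h1 := two_pow_dvd (d := d) H.hp H.hp2 (Nat.pos_of_ne_zero hk) hpk ha0
      (by rwa [show c + 1 + d = n + 1 by omega])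
    have h2 : Z.relIndex U ≤ (2 ^ (2 * k)) ^ (M - 1) := by
      refine le_trans ?_ ((hJ _).trans_eq (by rw [Nat.card_Ioo, Nat.sub_zero]))
      exact Nat.le_of_dvd (Nat.pos_of_ne_zero Subgroup.index_ne_zero_of_finite)
        (Subgroup.relIndex_dvd_of_le_left U hJZ)
    rw [ha, ← pow_mul] at h2
    have h3 := (Nat.pow_le_pow_iff_right (show 1 < 2 by norm_num)).1 h2
    have hM1 : 1 ≤ p ^ d := Nat.pow_pos H.hp.pos
    obtain ⟨m, hm⟩ : ∃ m, p ^ d = m + 1 := ⟨p ^ d - 1, by omega⟩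
    rw [hM, hm, Nat.add_sub_cancel] at h3
    rw [hm, Nat.mul_succ] at h1
    omega
  -- the product of all translates of `μ` is trivial
  have hu : u ∈ U := huJ.1
  obtain ⟨v, hv, hne⟩ : ∃ v ∈ U, ext μ ⁅u, v⁆ ≠ 1 := by
    by_contra h
    push Not at h
    exact huR ⟨hu, h⟩
  let P : Y → K := fun z => ∏ i ∈ Finset.range M, ext μ (x ^ i * z * (x ^ i)⁻¹)
  have hPinv : ∀ z ∈ Z, P (x * z * x⁻¹) = P z := by
    intro z hz
    have h1 := Finset.prod_range_succ' (fun i => ext μ (x ^ i * z * (x ^ i)⁻¹)) M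
    have h2 := Finset.prod_range_succ (fun i => ext μ (x ^ i * z * (x ^ i)⁻¹)) M
    simp only [pow_zero, one_mul, inv_one, mul_one, hxMμ z hz] at h1 h2
    have h3 := mul_right_cancel₀ (ext_ne_zero μ hz) (h1.symm.trans h2)
    refine Eq.trans (Finset.prod_congr rfl fun i _ => ?_) h3
    rw [pow_succ]
    congr 1
    group
  have hPtriv : ∀ z ∈ Z, P z = 1 := by
    intro z hz
    let f : Z → Z := fun w => ⟨x * (w : Y) * x⁻¹ * (w : Y)⁻¹, Z.mul_mem (hxZ w w.2) (Z.inv_mem w.2)⟩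
    have hf : Function.Injective f := by
      intro w₁ w₂ e
      have e' : x * (w₁ : Y) * x⁻¹ * (w₁ : Y)⁻¹ = x * (w₂ : Y) * x⁻¹ * (w₂ : Y)⁻¹ := congrArg Subtype.val e
      have hd : ((w₂ : Y)⁻¹ * (w₁ : Y)) ∈ Z := Z.mul_mem (Z.inv_mem w₂.2) w₁.2
      have hfix : x * ((w₂ : Y)⁻¹ * (w₁ : Y)) * x⁻¹ = (w₂ : Y)⁻¹ * (w₁ : Y) := by
        calc x * ((w₂ : Y)⁻¹ * (w₁ : Y)) * x⁻¹
            = (x * (w₂ : Y) * x⁻¹)⁻¹ * (x * (w₁ : Y) * x⁻¹ * (w₁ : Y)⁻¹) * (w₁ : Y) := by group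
          _ = (x * (w₂ : Y) * x⁻¹)⁻¹ * (x * (w₂ : Y) * x⁻¹ * (w₂ : Y)⁻¹) * (w₁ : Y) := by rw [e']
          _ = _ := by group
      have := H.hC _ hd.1 (by rw [← mul_inv_eq_iff_eq_mul]; exact hfix)
      exact Subtype.ext (inv_mul_eq_one.1 this).symm
    obtain ⟨w, hw⟩ := Finite.injective_iff_surjective.1 hf ⟨z, hz⟩
    have hzw : z = x * (w : Y) * x⁻¹ * (w : Y)⁻¹ := (congrArg Subtype.val hw).symm
    have hmul : ∀ s ∈ Z, ∀ t ∈ Z, P (s * t) = P s * P t := fun s hs t ht => by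
      simp only [P, ← Finset.prod_mul_distrib]
      refine Finset.prod_congr rfl fun i _ => ?_
      rw [← ext_mul μ (conj_pow_mem' hxZ i hs) (conj_pow_mem' hxZ i ht)]
      congr 1
      group
    have hne0 : P (w : Y) ≠ 0 :=
      Finset.prod_ne_zero_iff.2 fun i _ => ext_ne_zero μ (conj_pow_mem' hxZ i w.2)
    have h := hmul z hz w w.2
    rw [hzw, inv_mul_cancel_right, hPinv _ w.2] at h
    rw [hzw]
    exact mul_right_cancel₀ hne0 (by rw [one_mul, ← h])
  have hP := hPtriv _ (hder u hu v hv)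
  have hM0 : 0 < M := Nat.pow_pos H.hp.pos
  simp only [P] at hP
  rw [Finset.prod_eq_single 0] at hP
  · simp only [pow_zero, one_mul, inv_one, mul_one] at hP
    exact hne hP
  · intro i hi hi0
    have hmem := Subgroup.mem_iInf.1 (Subgroup.mem_iInf.1 huJ.2 i)
      (Finset.mem_Ioo.2 ⟨Nat.pos_of_ne_zero hi0, Finset.mem_range.1 hi⟩)
    rw [show x ^ i * ⁅u, v⁆ * (x ^ i)⁻¹ = ⁅x ^ i * u * (x ^ i)⁻¹, x ^ i * v * (x ^ i)⁻¹⁆ by
      simp only [commutatorElement_def]; group]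
    exact (hmem : x ^ i * u * (x ^ i)⁻¹ ∈ R).2 _ (conj_pow_mem' H.hxU i hv)
  · intro h; exact absurd (Finset.mem_range.2 hM0) h

end Moved

/-- An operator of order dividing `p ^ (n + 1)`, without fixed points on the module and on the
group: its `p ^ n`-th power centralizes the group. -/
theorem commute_of_fpf_inj (hinj : Function.Injective ρ) (hp : p.Prime) (hp2 : p ≠ 2) (hp0 : (p : K) ≠ 0)
    (hq : q.Prime) (hq0 : (q : K) ≠ 0) (hqp : q ≠ p) (hxr : x ^ p ^ (n + 1) = 1) (hfix : fix ρ x = ⊥) :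
    ∀ U : Subgroup Y, IsPGroup q U → (∀ u ∈ U, x * u * x⁻¹ ∈ U) → (∀ u ∈ U, x * u = u * x → u = 1) →
      ∀ u ∈ U, x ^ p ^ n * u = u * x ^ p ^ n := by
  intro U
  induction hc : Nat.card U using Nat.strong_induction_on generalizing U with
  | _ m ih =>
  intro hU hxU hC
  subst hc
  by_contra hmove
  push Not at hmove
  exact Moved.contradiction (ρ := ρ) (U := U) (x := x) (p := p) (q := q) (n := n)
    ⟨hinj, hp, hp2, hp0, hq, hq0, hqp, hU, hxr, hxU, hC, hfix,
      fun N hN hxN => ih _ (Set.Finite.card_lt_card (Set.toFinite _) (SetLike.coe_ssubset_coe.2 hN)) N rfl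
        (hU.to_le hN.le) hxN (fun s hs => hC s (hN.le hs)), hmove⟩

end CfsgLib.HallHigman.FpfPower
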